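import Cfsg.Agent.Lib.J4Eleven.Main
import Cfsg.Agent.Lib.J4V.M22Sub
import Cfsg.Agent.Lib.J4Local.AutThree

/-!
# Janko four type: elements of order seven in the centraliser of `z`

Such an element fixes only `⟨z⟩` in `E` (a Gauss sum count), and its centraliser and normaliser in `H` have
orders dividing 84 and 252.
-/

set_option autoImplicit false
set_option linter.style.haveILetI false
set_option linter.unusedSectionVars false

namespace Cfsg.Agent.J4Seven

open Subgroup
open Cfsg.Agent.J4Local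
open Cfsg.Agent.J4Eleven (Chart)

universe u

/-- The number of fixed points of a permutation of prime order. -/
theorem card_fixed_modEq {α : Type*} [Finite α] {p : ℕ} [Fact p.Prime] (f : α → α)
    (hf : ∀ a, f^[p] a = a) : Nat.card α ≡ Nat.card {a // f a = a} [MOD p] := by
  classical
  haveI := Fintype.ofFinite α
  let g : Function.End α := f
  have h := Equiv.Perm.card_fixedPoints_modEq (α := α) (f := g) (p := p) (n := 1)
    (by
      rw [pow_one]
      funext a
      exact (congrFun (hom_coe_pow (fun g : Function.End α => g) rfl (fun _ _ => rfl) g p) a).trans (hf a))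
  have e : Nat.card {a // f a = a} = Fintype.card (Function.fixedPoints f) := by
    rw [Nat.card_eq_fintype_card]
    exact Fintype.card_congr (Equiv.refl _)
  rw [Nat.card_eq_fintype_card, e]
  convert h using 2

/-- Conjugation by an element of prime order on a set it normalises. -/
theorem card_conj_fixed {G : Type*} [Group G] [Finite G] {p : ℕ} [Fact p.Prime] {x : G} (hx : x ^ p = 1)
    (U : Subgroup G) (hU : ∀ v ∈ U, x * v * x⁻¹ ∈ U) :
    Nat.card ↥U ≡ Nat.card ↥(U ⊓ centralizer ({x} : Set G)) [MOD p] := by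
  let f : ↥U → ↥U := fun v => ⟨x * v * x⁻¹, hU v v.2⟩
  have hit : ∀ (n : ℕ) (v : ↥U), ((f^[n] v : ↥U) : G) = x ^ n * v * (x ^ n)⁻¹ := by
    intro n v
    induction n with
    | zero => simp
    | succ n ih =>
      rw [Function.iterate_succ_apply', pow_succ']
      show x * ((f^[n] v : ↥U) : G) * x⁻¹ = _
      rw [ih]; group
  refine (card_fixed_modEq f fun v => Subtype.ext (by rw [hit, hx]; simp)).trans ?_
  let e : {v // f v = v} ≃ ↥(U ⊓ centralizer ({x} : Set G)) :=
    { toFun := fun v => ⟨v.1.1, v.1.2, mem_centralizer_singleton_iff.2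
        (mul_inv_eq_iff_eq_mul.1 (congrArg Subtype.val v.2)).symm⟩
      invFun := fun v => ⟨⟨v.1, v.2.1⟩, Subtype.ext (mul_inv_eq_iff_eq_mul.2
        (mem_centralizer_singleton_iff.1 v.2.2).symm)⟩
      left_inv := fun v => rfl
      right_inv := fun v => rfl }
  exact congrArg (· % p) (Nat.card_congr e)

/-- A nondegenerate quadratic form on an elementary group has Gauss sum squared equal to the order. -/
theorem gauss_sq {A : Type*} [AddCommGroup A] [Fintype A] (q : A → ZMod 2) (b : A → A → ZMod 2)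
    (hq : ∀ u v, q (u + v) = q u + q v + b u v) (hb : ∀ u v w, b u (v + w) = b u v + b u w)
    (hc : ∀ u v, b u v = b v u) (hn : ∀ u, (∀ v, b u v = 0) → u = 0) :
    (∑ u, (if q u = 0 then (1 : ℤ) else -1)) ^ 2 = Fintype.card A := by
  classical
  set s : A → ℤ := fun u => if q u = 0 then (1 : ℤ) else -1 with hs
  set c : ZMod 2 → ℤ := fun t => if t = 0 then (1 : ℤ) else -1 with hcdef
  have hmul : ∀ a b : ZMod 2, c a * c b = c (a + b) := by decide +kernel
  have hq0 : q 0 = 0 := by
    have h1 := hq 0 0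
    have h2 := hb 0 0 0
    rw [add_zero] at h1 h2
    revert h1 h2
    generalize q 0 = a
    generalize b 0 0 = e
    revert a e
    decide +kernel
  have hkey : ∀ u d, s u * s (u + d) = c (q d) * c (b u d) := fun u d => by
    show c (q u) * c (q (u + d)) = _
    rw [hmul, hmul, hq]
    congr 1
    have key : ∀ x y e : ZMod 2, x + (x + y + e) = y + e := by decide +kernel
    exact key _ _ _
  have horth : ∀ d, d ≠ 0 → ∑ u, c (b u d) = 0 := by
    intro d hd
    obtain ⟨v, hv⟩ : ∃ v, b v d ≠ 0 := by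
      by_contra hcon
      push Not at hcon
      exact hd (hn d fun v => by rw [hc]; exact hcon v)
    have hv1 : b v d = 1 := (show ∀ x : ZMod 2, x ≠ 0 → x = 1 by decide +kernel) _ hv
    have e : ∑ u, c (b u d) = ∑ u, -c (b u d) := by
      refine Fintype.sum_equiv (Equiv.addRight v) _ _ fun u => ?_
      show _ = -c (b (u + v) d)
      rw [hc (u + v), hb, hc d u, hc d v, hv1]
      exact (show ∀ x : ZMod 2, c x = -c (x + 1) by decide +kernel) _
    rw [Finset.sum_neg_distrib] at e
    omega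
  have h0 : ∑ u, c (b u 0) = (Fintype.card A : ℤ) := by
    have hb0 : ∀ u, b u 0 = 0 := fun u => by
      have h2 := hb u 0 0
      rw [add_zero] at h2
      exact (show ∀ x : ZMod 2, x = x + x → x = 0 by decide +kernel) _ h2
    simp [hb0, hcdef]
  calc (∑ u, s u) ^ 2 = ∑ u, ∑ v, s u * s v := by rw [pow_two, Finset.sum_mul_sum]
    _ = ∑ u, ∑ d, s u * s (u + d) :=
        Finset.sum_congr rfl fun u _ => (Fintype.sum_equiv (Equiv.addLeft u) _ _ fun d => rfl).symm
    _ = ∑ d, c (q d) * ∑ u, c (b u d) := by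
        rw [Finset.sum_comm]
        refine Finset.sum_congr rfl fun d _ => ?_
        rw [Finset.mul_sum]
        exact Finset.sum_congr rfl fun u _ => hkey u d
    _ = Fintype.card A := by
        rw [Finset.sum_eq_single 0 (fun d _ hd => by rw [horth d hd, mul_zero]) (by simp), h0, hq0]
        simp [hcdef]

variable {G : Type u} [Group G] [Finite G] {z : G} {P : Subgroup G}

/-- The Gauss sum of an invariant subspace on which the form is nondegenerate. -/
theorem zero_count (hJ : JType z P) (A : AddSubgroup (VV z))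
    (hn : ∀ a ∈ A, (∀ b ∈ A, BB z a b = 0) → a = 0)
    (hP : ∀ p ∈ P, ∀ a ∈ A, act z p a ∈ A) :
    Nat.card {a : ↥A // QQ z (a : VV z) = 0} % 3 = 1 ∧
      (2 * (Nat.card {a : ↥A // QQ z (a : VV z) = 0} : ℤ) - Nat.card ↥A) ^ 2 = Nat.card ↥A := by
  classical
  haveI := Fintype.ofFinite ↥A
  constructor
  · obtain ⟨p, hp, hp1, -, hp3⟩ := hJ.exists_gen
    have hpH := hJ.P_le_HH hp
    haveI : Fact (Nat.Prime 3) := ⟨Nat.prime_three⟩
    let f : {a : ↥A // QQ z (a : VV z) = 0} → {a : ↥A // QQ z (a : VV z) = 0} :=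
      fun a => ⟨⟨act z p a.1, hP p hp _ a.1.2⟩, (QQ_act hJ hpH _).trans a.2⟩
    have h := card_fixed_modEq f (p := 3) fun a => Subtype.ext (Subtype.ext (by
      show act z p (act z p (act z p a.1)) = (a.1 : VV z)
      rw [← act_mul hpH hpH, ← act_mul (mul_mem hpH hpH) hpH, ← pow_three', hp3, act_one]))
    have h1 : Nat.card {a // f a = a} = 1 := by
      rw [Nat.card_eq_one_iff_unique]
      refine ⟨⟨fun a b => ?_⟩, ⟨⟨⟨0, ?_⟩, Subtype.ext (Subtype.ext (map_zero (act z p)))⟩⟩⟩
      · have key : ∀ a : {a // f a = a}, ((a.1.1 : ↥A) : VV z) = 0 := fun a => by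
          obtain ⟨y, hy, e⟩ := vk_surj ((a.1.1 : ↥A) : VV z)
          have e1 : act z p (vk z y) = vk z y := by
            rw [e]; exact congrArg (fun t => ((Subtype.val t : ↥A) : VV z)) a.2
          rw [← e, vk_eq_zero_iff hJ hy]
          refine hJ.fpf hp hp1 hy ?_
          rw [act_vk hpH hy] at e1
          rw [← vk_eq_zero_iff hJ (mul_mem (conj_mem_EE hpH hy) (inv_mem hy)),
            vk_mul (conj_mem_EE hpH hy) (inv_mem hy), vk_inv hJ hy, e1, VV.two hJ]
        exact Subtype.ext (Subtype.ext (Subtype.ext ((key a).trans (key b).symm)))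
      · show QQ z ((0 : ↥A) : VV z) = 0
        rw [AddSubgroup.coe_zero, ← vk_one, QQ_vk_eq_zero hJ (one_mem _), one_mul]
    rw [h1] at h
    exact h
  · have h := gauss_sq (fun a : ↥A => QQ z (a : VV z)) (fun a b => BB z (a : VV z) b)
      (fun a b => QQ_add hJ _ _) (fun a b c => BB_add_right hJ _ _ _) (fun a b => BB_comm z _ _)
      (fun a ha => Subtype.ext (hn _ a.2 fun b hb => ha ⟨b, hb⟩))
    rw [Nat.card_eq_fintype_card, Nat.card_eq_fintype_card, Fintype.card_subtype]
    rw [Finset.sum_ite, Finset.sum_const, Finset.sum_const] at h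
    have hsplit := Finset.card_filter_add_card_filter_not (s := (Finset.univ : Finset ↥A))
      (fun a => QQ z (a : VV z) = 0)
    rw [Finset.card_univ] at hsplit
    set n0 := (Finset.univ.filter fun a : ↥A => QQ z (a : VV z) = 0).card
    set n1 := (Finset.univ.filter fun a : ↥A => ¬ QQ z (a : VV z) = 0).card
    have e : (2 * (n0 : ℤ) - (Fintype.card ↥A : ℤ)) = n0 • (1 : ℤ) + n1 • (-1) := by
      rw [← hsplit]
      simp only [nsmul_eq_mul, mul_one, mul_neg]
      push_cast
      ring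
    rw [e]
    exact h

/-- An element of order seven of `C` fixes only `⟨z⟩` in `E`. -/
theorem fixed_seven (hJ : JType z P) {x : G} (hx : x ∈ CC z P) (h7 : orderOf x = 7) {e : G} (he : e ∈ EE z)
    (hc : x * e = e * x) : e ∈ zpowers z := by
  classical
  haveI : Fact (Nat.Prime 7) := ⟨by norm_num⟩
  have hxH := hx.1
  let A : AddSubgroup (VV z) :=
    { carrier := {v | act z x v = v}
      zero_mem' := map_zero _
      add_mem' := fun {a b} ha hb => by
        show act z x (a + b) = a + b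
        rw [map_add, show act z x a = a from ha, show act z x b = b from hb]
      neg_mem' := fun {a} ha => by
        show act z x (-a) = -a
        rw [map_neg, show act z x a = a from ha] }
  have hmA : ∀ v, v ∈ A ↔ act z x v = v := fun v => Iff.rfl
  have hx7 : x ^ 7 = 1 := h7 ▸ pow_orderOf_eq_one x
  have hit : ∀ (n : ℕ) (v : VV z), (act z x)^[n] v = act z (x ^ n) v := by
    intro n v
    induction n with
    | zero => rw [pow_zero, act_one]; rfl
    | succ n ih => rw [Function.iterate_succ_apply', ih, pow_succ', act_mul hxH (pow_mem hxH n)]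
  have hn : ∀ a ∈ A, (∀ b ∈ A, BB z a b = 0) → a = 0 := by
    intro a ha hb
    refine BB_nondeg hJ fun v => ?_
    let vs : VV z := ∑ i ∈ Finset.range 7, (act z x)^[i] v
    have hvs : vs ∈ A := by
      rw [hmA, map_sum]
      simp only [← Function.iterate_succ_apply' (act z x)]
      have h1 := Finset.sum_range_succ' (fun i => (act z x)^[i] v) 7
      rw [Finset.sum_range_succ, Function.iterate_zero_apply, hit 7, hx7, act_one] at h1
      exact add_right_cancel h1.symm
    have hfix : ∀ i : ℕ, BB z a ((act z x)^[i] v) = BB z a v := by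
      intro i
      induction i with
      | zero => rfl
      | succ i ih =>
        rw [Function.iterate_succ_apply']
        nth_rewrite 1 [← (hmA a).1 ha]
        rw [BB_act hJ hxH, ih]
    have h2 := hb vs hvs
    let φ : VV z →+ ZMod 2 := AddMonoidHom.mk' (BB z a) (BB_add_right hJ a)
    have h3 : φ vs = ∑ i ∈ Finset.range 7, φ ((act z x)^[i] v) := map_sum φ _ _
    simp only [φ, AddMonoidHom.mk'_apply, hfix, Finset.sum_const, Finset.card_range] at h3
    rw [h2] at h3
    have key : ∀ t : ZMod 2, 0 = 7 • t → t = 0 := by decide +kernel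
    exact key _ h3
  have hP : ∀ p ∈ P, ∀ a ∈ A, act z p a ∈ A := fun p hp a ha => by
    rw [hmA, ← act_mul hxH (hJ.P_le_HH hp), commute_CC_P hx hp, act_mul (hJ.P_le_HH hp) hxH, (hmA a).1 ha]
  obtain ⟨m3, msq⟩ := zero_count hJ A hn hP
  obtain ⟨M3, Msq⟩ := zero_count hJ ⊤ (fun a _ h => BB_nondeg hJ fun b => h b (AddSubgroup.mem_top b))
    (fun p _ a _ => AddSubgroup.mem_top _)
  set nA := Nat.card {a : ↥A // QQ z (a : VV z) = 0}
  set nV := Nat.card {a : ↥(⊤ : AddSubgroup (VV z)) // QQ z (a : VV z) = 0}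
  have hcV : Nat.card ↥(⊤ : AddSubgroup (VV z)) = 2 ^ 12 := by
    rw [Nat.card_congr AddSubgroup.topEquiv.toEquiv, card_VV hJ]
  -- the counts modulo seven
  have hsev : nV ≡ nA [MOD 7] := by
    let f : {a : ↥(⊤ : AddSubgroup (VV z)) // QQ z (a : VV z) = 0} →
        {a : ↥(⊤ : AddSubgroup (VV z)) // QQ z (a : VV z) = 0} :=
      fun a => ⟨⟨act z x a.1, AddSubgroup.mem_top _⟩, (QQ_act hJ hxH _).trans a.2⟩
    have hf : ∀ (n : ℕ) (a : {a : ↥(⊤ : AddSubgroup (VV z)) // QQ z (a : VV z) = 0}),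
        ((f^[n] a).1 : VV z) = (act z x)^[n] (a.1 : VV z) := by
      intro n a
      induction n with
      | zero => rfl
      | succ n ih =>
        rw [Function.iterate_succ_apply', Function.iterate_succ_apply', ← ih]
    refine (card_fixed_modEq f (p := 7) fun a => Subtype.ext (Subtype.ext (by
      rw [hf, hit, hx7, act_one]))).trans (congrArg (· % 7) (Nat.card_congr
      { toFun := fun a => ⟨⟨(a.1.1 : VV z), congrArg (fun t => ((Subtype.val t : ↥(⊤ : AddSubgroup (VV z))) : VV z)) a.2⟩, a.1.2⟩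
        invFun := fun a => ⟨⟨⟨(a.1 : VV z), AddSubgroup.mem_top _⟩, a.2⟩, Subtype.ext (Subtype.ext a.1.2)⟩
        left_inv := fun a => rfl
        right_inv := fun a => rfl }))
  have hcA : 2 ^ 12 ≡ Nat.card ↥A [MOD 7] := by
    rw [← card_VV hJ]
    exact card_fixed_modEq (act z x) (p := 7) fun v => by rw [hit, hx7, act_one]
  obtain ⟨j, hj, hjA⟩ := (Nat.dvd_prime_pow Nat.prime_two).1
    (show Nat.card ↥A ∣ 2 ^ 12 by rw [← card_VV hJ]; exact A.card_addSubgroup_dvd_card)
  have hAb : nA ≤ Nat.card ↥A := Nat.card_le_card_of_injective _ Subtype.val_injective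
  have hVb : nV ≤ 2 ^ 12 := hcV ▸ Nat.card_le_card_of_injective _ Subtype.val_injective
  -- the sum over everything
  have hV : nV = 2080 := by
    rw [hcV] at Msq
    have h2 : (2 * (nV : ℤ) - 2 ^ 12 - 64) * (2 * (nV : ℤ) - 2 ^ 12 + 64) = 0 := by
      push_cast at Msq
      linear_combination Msq
    rcases mul_eq_zero.1 h2 with h | h <;> omega
  have hj' : j = 0 ∨ j = 12 := by
    rw [hjA] at hcA msq hAb
    by_contra hcon
    push Not at hcon
    have h1 : j = 3 ∨ j = 6 ∨ j = 9 := by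
      obtain ⟨n0, n1⟩ := hcon
      clear * - hcA hj n0 n1
      rw [Nat.ModEq] at hcA
      interval_cases j <;> omega
    rcases h1 with rfl | rfl | rfl
    · have hs : ∀ k : ℕ, k ≤ 8 → (2 * (k : ℤ) - 8) ^ 2 ≠ 8 := by decide +kernel
      exact hs nA hAb (by exact_mod_cast msq)
    · have h2 : (2 * (nA : ℤ) - 2 ^ 6 - 8) * (2 * (nA : ℤ) - 2 ^ 6 + 8) = 0 := by
        push_cast at msq
        linear_combination msq
      rw [Nat.ModEq, hV] at hsev
      rcases mul_eq_zero.1 h2 with h | h <;> omega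
    · have hs : ∀ k : ℕ, k ≤ 512 → (2 * (k : ℤ) - 512) ^ 2 ≠ 512 := by decide +kernel
      exact hs nA hAb (by exact_mod_cast msq)
  rcases hj' with rfl | rfl
  · rw [pow_zero] at hjA
    rw [← vk_eq_zero_iff hJ he]
    have hmem : vk z e ∈ A := by
      rw [hmA, act_vk hxH he, hc, mul_inv_cancel_right]
    haveI := (Nat.card_eq_one_iff_unique.1 hjA).1
    exact congrArg Subtype.val (Subsingleton.elim (⟨_, hmem⟩ : ↥A) 0)
  · exfalso
    have htop : A = ⊤ := AddSubgroup.eq_top_of_card_eq _ (by rw [hjA, card_VV hJ])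
    have hxE := act_eq_id_mem hJ hxH fun v => (hmA v).1 (htop ▸ AddSubgroup.mem_top v)
    have h1 := (EE z).orderOf_dvd_natCard hxE
    rw [h7, hJ.cardE] at h1
    norm_num at h1

/-- In the automorphism group of M22 the centraliser and the normaliser of an element of order seven. -/
theorem aut_seven {y : MulAut ↥Cfsg.Spor.M22} (hy : orderOf y = 7) :
    Nat.card ↥(centralizer ({y} : Set (MulAut ↥Cfsg.Spor.M22))) ∣ 14 ∧
      Nat.card ↥(normalizer (zpowers y : Set (MulAut ↥Cfsg.Spor.M22))) ∣ 42 := by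
  haveI := Cfsg.Agent.Golay.M22TwoBlock.isSimple
  haveI : Fact (Nat.Prime 7) := ⟨by norm_num⟩
  have hc := Cfsg.Agent.Golay.M22Involution.card_M22
  have hidx : (Cfsg.Inn ↥Cfsg.Spor.M22).index = 2 := Cfsg.Agent.Golay.AutM22.index_inn
  haveI : (Cfsg.Inn ↥Cfsg.Spor.M22).Normal := normal_of_index_eq_two hidx
  have hyI : y ∈ Cfsg.Inn ↥Cfsg.Spor.M22 := by
    rw [← QuotientGroup.eq_one_iff, ← orderOf_eq_one_iff]
    have h1 := orderOf_map_dvd (QuotientGroup.mk' (Cfsg.Inn ↥Cfsg.Spor.M22)) y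
    have h2 := orderOf_dvd_natCard (QuotientGroup.mk' (Cfsg.Inn ↥Cfsg.Spor.M22) y)
    rw [← index_eq_card, hidx] at h2
    rw [hy] at h1
    exact Nat.dvd_one.1 ((Nat.dvd_gcd h1 h2).trans (by norm_num))
  obtain ⟨m, hm⟩ := hyI
  have hm7 : orderOf m = 7 := by
    rw [← Cfsg.Agent.J4Local.orderOf_of_conj (m := m), show (MulAut.conj m : MulAut ↥Cfsg.Spor.M22) = y from hm, hy]
  let Q : Sylow 7 ↥Cfsg.Spor.M22 := Sylow.ofCard (zpowers m) (by
    rw [Nat.card_zpowers, hm7, hc, show (443520 : ℕ).factorization 7 = 1 from by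
      rw [show (443520 : ℕ) = 63360 * 7 by norm_num, Nat.factorization_mul (by norm_num) (by norm_num),
        Finsupp.add_apply, Nat.Prime.factorization_self (by norm_num),
        Nat.factorization_eq_zero_of_not_dvd (by norm_num)], pow_one])
  have hN := J4V.card_normalizer_seven hc Q
  have hQ : (Q : Subgroup ↥Cfsg.Spor.M22) = zpowers m := Sylow.coe_ofCard ..
  rw [hQ] at hN
  have hC : Nat.card ↥(centralizer ({m} : Set ↥Cfsg.Spor.M22)) = 7 := by
    have hle : centralizer ({m} : Set ↥Cfsg.Spor.M22) ≤ normalizer (zpowers m : Set ↥Cfsg.Spor.M22) :=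
      fun g hg => M22Order.mem_normalizer_of_conj fun a ha => by
        obtain ⟨k, rfl⟩ := mem_zpowers_iff.1 ha
        rw [((show Commute g m from mem_centralizer_singleton_iff.1 hg).zpow_right k).eq, mul_inv_cancel_right]
        exact zpow_mem (mem_zpowers m) k
    have h1 := card_dvd_of_le hle
    rw [hN] at h1
    have h2 : 7 ∣ Nat.card ↥(centralizer ({m} : Set ↥Cfsg.Spor.M22)) := by
      rw [← hm7]
      exact (centralizer ({m} : Set ↥Cfsg.Spor.M22)).orderOf_dvd_natCard (mem_centralizer_singleton_iff.2 rfl)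
    obtain ⟨k, hk⟩ := h2
    rw [hk, show (21 : ℕ) = 7 * 3 from rfl, Nat.mul_dvd_mul_iff_left (by norm_num)] at h1
    rcases (Nat.dvd_prime Nat.prime_three).1 h1 with rfl | rfl
    · exact hk
    exfalso
    have heq : centralizer ({m} : Set ↥Cfsg.Spor.M22) = normalizer (zpowers m : Set ↥Cfsg.Spor.M22) :=
      eq_of_le_of_card_ge hle (by rw [hk, hN])
    have hPC : normalizer ((Q : Subgroup ↥Cfsg.Spor.M22) : Set ↥Cfsg.Spor.M22) ≤
        centralizer ((Q : Subgroup ↥Cfsg.Spor.M22) : Set ↥Cfsg.Spor.M22) := by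
      rw [hQ, ← heq]
      intro g hg
      refine mem_centralizer_iff.2 ?_
      rintro _ ⟨i, rfl⟩
      exact ((show Commute g m from mem_centralizer_singleton_iff.1 hg).zpow_right i).eq.symm
    have hcompl := MonoidHom.ker_transferSylow_isComplement' Q hPC
    rcases (inferInstance : (MonoidHom.transferSylow Q hPC).ker.Normal).eq_bot_or_eq_top with e | e
    · have := hcompl.card_mul
      rw [e, Nat.card_eq_one_iff_unique.2 ⟨inferInstance, inferInstance⟩, hQ, Nat.card_zpowers, hm7, hc] at this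
      norm_num at this
    · have := hcompl.card_mul
      rw [e, Nat.card_congr topEquiv.toEquiv, hQ, Nat.card_zpowers, hm7, hc] at this
      norm_num at this
  have hinj := J4Local.conj_m22_injective
  have two : ∀ K : Subgroup (MulAut ↥Cfsg.Spor.M22),
      Nat.card ↥K ∣ 2 * Nat.card ↥(K.comap (MulAut.conj (G := ↥Cfsg.Spor.M22))) := by
    intro K
    have h1 : (K ⊓ Cfsg.Inn ↥Cfsg.Spor.M22 : Subgroup _) =
        (K.comap (MulAut.conj (G := ↥Cfsg.Spor.M22))).map MulAut.conj := by
      rw [map_comap_eq, inf_comm]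
    rw [← card_map_of_injective hinj, ← h1]
    have h2 := ((Cfsg.Inn ↥Cfsg.Spor.M22).subgroupOf K).card_mul_index
    rw [← h2, mul_comm 2]
    refine Nat.mul_dvd_mul ?_ (hidx ▸ relIndex_dvd_index_of_normal _ K)
    rw [← inf_subgroupOf_left, Nat.card_congr (subgroupOfEquivOfLe inf_le_left).toEquiv]
  have hcm : (centralizer ({y} : Set (MulAut ↥Cfsg.Spor.M22))).comap MulAut.conj =
      centralizer ({m} : Set ↥Cfsg.Spor.M22) := by
    ext g
    rw [mem_comap, mem_centralizer_singleton_iff, mem_centralizer_singleton_iff, ← hm, ← map_mul, ← map_mul]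
    exact hinj.eq_iff
  have hnm : (normalizer (zpowers y : Set (MulAut ↥Cfsg.Spor.M22))).comap MulAut.conj ≤
      normalizer (zpowers m : Set ↥Cfsg.Spor.M22) := fun g hg =>
    M22Order.mem_normalizer_of_conj fun a ha => by
      obtain ⟨k, rfl⟩ := mem_zpowers_iff.1 ha
      have h1 := M22Order.conj_mem_of_mem_normalizer (mem_comap.1 hg) (zpow_mem (mem_zpowers y) k)
      obtain ⟨i, hi⟩ := mem_zpowers_iff.1 h1
      refine mem_zpowers_iff.2 ⟨i, hinj ?_⟩
      rw [map_zpow, map_mul, map_mul, map_zpow, map_inv, hm, hi]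
  constructor
  · have h := two (centralizer ({y} : Set (MulAut ↥Cfsg.Spor.M22)))
    rwa [hcm, hC] at h
  · refine (two _).trans ?_
    rw [show (42 : ℕ) = 2 * 21 from rfl, ← hN]
    exact Nat.mul_dvd_mul_left 2 (card_dvd_of_le hnm)

/-- The centraliser and the normaliser in `H` of an element of order seven of `C`. -/
theorem cent_norm_seven (hJ : JType z P) {x : G} (hx : x ∈ CC z P) (h7 : orderOf x = 7) :
    Nat.card ↥(HH z ⊓ centralizer ({x} : Set G)) ∣ 84 ∧
      Nat.card ↥(HH z ⊓ normalizer (zpowers x : Set G)) ∣ 252 := by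
  obtain ⟨Φ, -, hker, hPE⟩ := exists_full_hom hJ
  have hxH := hx.1
  set y := Φ ⟨x, hxH⟩ with hy
  have hxn : x ∉ P ⊔ EE z := fun h => by
    have h1 := (P ⊔ EE z).orderOf_dvd_natCard h
    rw [h7, hPE] at h1
    norm_num at h1
  have hy7 : orderOf y = 7 := by
    haveI : Fact (Nat.Prime 7) := ⟨by norm_num⟩
    refine orderOf_eq_prime ?_ fun e => hxn ?_
    · rw [hy, ← map_pow, show (⟨x, hxH⟩ : ↥(HH z)) ^ 7 = 1 from Subtype.ext (h7 ▸ pow_orderOf_eq_one x), map_one]
    · have h1 : (⟨x, hxH⟩ : ↥(HH z)) ∈ Φ.ker := e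
      rwa [hker, mem_subgroupOf] at h1
  obtain ⟨hA, hB⟩ := aut_seven hy7
  have hcent : ∀ g ∈ P ⊔ EE z, g * x * g⁻¹ ∈ zpowers x → g ∈ P ⊔ zpowers z := by
    intro g hg hgx
    have hn : P ≤ normalizer (EE z : Set G) := fun p hp => M22Order.mem_normalizer_of_conj fun e he =>
      conj_mem_EE (hJ.P_le_HH hp) he
    have hg' : g ∈ ((P ⊔ EE z : Subgroup G) : Set G) := hg
    rw [coe_mul_of_left_le_normalizer_right P _ hn] at hg'
    obtain ⟨p, hp, e, he, rfl⟩ := hg'
    have hpx := commute_CC_P hx hp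
    have h1 : p * e * x * (p * e)⁻¹ * x⁻¹ = p * (e * (x * e⁻¹ * x⁻¹)) * p⁻¹ := by
      have h2 : p⁻¹ * x⁻¹ = x⁻¹ * p⁻¹ := by rw [← mul_inv_rev, ← mul_inv_rev, hpx]
      calc p * e * x * (p * e)⁻¹ * x⁻¹ = p * e * x * e⁻¹ * (p⁻¹ * x⁻¹) := by group
        _ = _ := by rw [h2]; group
    have hmem : p * (e * (x * e⁻¹ * x⁻¹)) * p⁻¹ ∈ EE z :=
      conj_mem_EE (hJ.P_le_HH hp) (mul_mem he (conj_mem_EE hxH (inv_mem he)))
    have hmem' : p * e * x * (p * e)⁻¹ * x⁻¹ ∈ zpowers x := mul_mem hgx (inv_mem (mem_zpowers x))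
    have hone : p * (e * (x * e⁻¹ * x⁻¹)) * p⁻¹ = 1 := by
      rw [h1] at hmem'
      exact Subgroup.disjoint_def.1 (disjoint_of_coprime_natCard
        (by rw [Nat.card_zpowers, h7, hJ.cardE]; norm_num)) hmem' hmem
    rw [conj_eq_one_iff] at hone
    refine mul_mem (mem_sup_left hp) (mem_sup_right (fixed_seven hJ hx h7 he ?_))
    calc x * e = (e * (x * e⁻¹ * x⁻¹))⁻¹ * (e * x) := by group
      _ = e * x := by rw [hone, inv_one, one_mul]
  have bound : ∀ K : Subgroup G, K ≤ HH z → (∀ k ∈ K, k * x * k⁻¹ ∈ zpowers x) →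
      ∀ L : Subgroup (MulAut ↥Cfsg.Spor.M22), (∀ k (hk : k ∈ HH z), k ∈ K → Φ ⟨k, hk⟩ ∈ L) →
      Nat.card ↥K ∣ 6 * Nat.card ↥L := by
    intro K hK hKx L hL
    let f : ↥K →* MulAut ↥Cfsg.Spor.M22 := Φ.comp (inclusion hK)
    rw [← f.ker.card_mul_index, index_ker]
    refine Nat.mul_dvd_mul ?_ (card_dvd_of_le ?_)
    · rw [← card_six hJ, ← card_map_of_injective (f := K.subtype) K.subtype_injective]
      refine card_dvd_of_le ?_
      rintro _ ⟨k, hk, rfl⟩
      refine hcent _ ?_ (hKx _ k.2)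
      have h1 : inclusion hK k ∈ Φ.ker := hk
      rwa [hker, mem_subgroupOf] at h1
    · rintro _ ⟨k, rfl⟩
      exact hL _ (hK k.2) k.2
  constructor
  · refine (bound _ inf_le_left (fun k hk => by
      rw [mem_centralizer_singleton_iff.1 hk.2, mul_inv_cancel_right]; exact mem_zpowers x) _
      fun k hk hkK => mem_centralizer_singleton_iff.2 ?_).trans
      (by rw [show (84 : ℕ) = 6 * 14 from rfl]; exact Nat.mul_dvd_mul_left 6 hA)
    rw [hy, ← map_mul, ← map_mul]
    exact congrArg Φ (Subtype.ext (mem_centralizer_singleton_iff.1 hkK.2))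
  · refine (bound _ inf_le_left (fun k hk => M22Order.conj_mem_of_mem_normalizer hk.2 (mem_zpowers x)) _
      fun k hk hkK => M22Order.mem_normalizer_of_conj fun a ha => ?_).trans
      (by rw [show (252 : ℕ) = 6 * 42 from rfl]; exact Nat.mul_dvd_mul_left 6 hB)
    obtain ⟨i, rfl⟩ := mem_zpowers_iff.1 ha
    obtain ⟨l, hl⟩ := mem_zpowers_iff.1 (M22Order.conj_mem_of_mem_normalizer hkK.2 (zpow_mem (mem_zpowers x) i))
    refine mem_zpowers_iff.2 ⟨l, ?_⟩
    rw [hy, ← map_zpow, ← map_zpow, ← map_inv, ← map_mul, ← map_mul]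
    exact congrArg Φ (Subtype.ext (by simpa using hl))

/-- An element of order seven of `C` with an element of `C` moving it inside the group it generates. -/
theorem exists_seven (X : Chart z P) :
    ∃ x ∈ CC z P, orderOf x = 7 ∧ ∃ n ∈ CC z P, n * x * n⁻¹ ∈ zpowers x ∧ n * x ≠ x * n := by
  have hJ := X.L.J
  haveI : Fact (Nat.Prime 7) := ⟨by norm_num⟩
  obtain ⟨⟨x, hx⟩, hord⟩ := exists_prime_orderOf_dvd_card' (G := ↥(CC z P)) 7 (by
    rw [show Nat.card ↥(CC z P) = Nat.card ↥(CP z P) from rfl, card_CP hJ]; norm_num)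
  rw [Subgroup.orderOf_mk] at hord
  set m := X.π ⟨x, hx⟩ with hm
  have h6 : ∀ k ∈ P ⊔ zpowers z, k ^ 6 = 1 := fun k hk => by
    have := congrArg Subtype.val (pow_card_eq_one' (x := (⟨k, hk⟩ : ↥(P ⊔ zpowers z))))
    rwa [card_six hJ] at this
  have hm1 : m ≠ 1 := fun e => by
    have h1 := orderOf_dvd_of_pow_eq_one (h6 x ((X.mem_ker_iff _).1 e))
    rw [hord] at h1
    norm_num at h1
  have hm7 : orderOf m = 7 := orderOf_eq_prime (by
    rw [hm, ← map_pow, show (⟨x, hx⟩ : ↥(CC z P)) ^ 7 = 1 from Subtype.ext (hord ▸ pow_orderOf_eq_one x),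
      map_one]) hm1
  let Q : Sylow 7 ↥Cfsg.Spor.M22 := Sylow.ofCard (zpowers m) (by
    rw [Nat.card_zpowers, hm7, X.hcard, show (443520 : ℕ).factorization 7 = 1 from by
      rw [show (443520 : ℕ) = 63360 * 7 by norm_num, Nat.factorization_mul (by norm_num) (by norm_num),
        Finsupp.add_apply, Nat.Prime.factorization_self (by norm_num),
        Nat.factorization_eq_zero_of_not_dvd (by norm_num)], pow_one])
  have hN := J4V.card_normalizer_seven X.hcard Q
  rw [show (Q : Subgroup ↥Cfsg.Spor.M22) = zpowers m from Sylow.coe_ofCard ..] at hN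
  obtain ⟨d, hd, hdm⟩ : ∃ d ∈ normalizer (zpowers m : Set ↥Cfsg.Spor.M22), d * m ≠ m * d := by
    by_contra hcon
    push Not at hcon
    obtain ⟨hA, -⟩ := aut_seven (y := MulAut.conj m) (by rw [Cfsg.Agent.J4Local.orderOf_of_conj, hm7])
    have h1 : (normalizer (zpowers m : Set ↥Cfsg.Spor.M22)).map MulAut.conj ≤
        centralizer ({MulAut.conj m} : Set (MulAut ↥Cfsg.Spor.M22)) := by
      rintro _ ⟨d, hd, rfl⟩
      rw [mem_centralizer_singleton_iff, ← map_mul, ← map_mul, hcon d hd]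
    have h2 := (card_dvd_of_le h1).trans hA
    rw [card_map_of_injective J4Local.conj_m22_injective, hN] at h2
    norm_num at h2
  obtain ⟨⟨n, hn⟩, rfl⟩ := X.surj d
  refine ⟨x, hx, hord, n, hn, ?_, fun e => hdm (by rw [hm, ← map_mul, ← map_mul]; exact congrArg X.π (Subtype.ext e))⟩
  obtain ⟨i, hi⟩ := mem_zpowers_iff.1 (M22Order.conj_mem_of_mem_normalizer hd (mem_zpowers m))
  have hk : (n * x * n⁻¹) * (x ^ i)⁻¹ ∈ P ⊔ zpowers z := (X.mem_ker_iff
    (⟨n, hn⟩ * ⟨x, hx⟩ * ⟨n, hn⟩⁻¹ * (⟨x, hx⟩ ^ i)⁻¹)).1 (by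
      rw [map_mul, map_mul, map_mul, map_inv, map_inv, map_zpow, ← hm, hi, mul_inv_cancel])
  set k := (n * x * n⁻¹) * (x ^ i)⁻¹ with hkdef
  have hck : Commute k x := six_central hJ hk hx
  have he : n * x * n⁻¹ = k * x ^ i := by rw [hkdef, inv_mul_cancel_right]
  have h7 : k ^ 7 = 1 := by
    have h1 : (k * x ^ i) ^ 7 = 1 := by
      rw [← he, conj_pow, show x ^ 7 = 1 from hord ▸ pow_orderOf_eq_one x, mul_one, mul_inv_cancel]
    rw [(hck.zpow_right i).mul_pow, ← zpow_natCast (x ^ i), ← zpow_mul, mul_comm, zpow_mul, zpow_natCast,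
      show x ^ 7 = 1 from hord ▸ pow_orderOf_eq_one x, one_zpow, mul_one] at h1
    exact h1
  have hk1 : k = 1 := by
    have := h6 k hk
    rwa [pow_succ k 6, this, one_mul] at h7
  exact mem_zpowers_iff.2 ⟨i, by rw [he, hk1, one_mul]⟩

end Cfsg.Agent.J4Seven
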