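import Cfsg.Agent.InvChar.Taussky
import Cfsg.Agent.Lib.PGroups.MaximalClass
import Cfsg.Agent.Lib.JankoTwo.Four
import Cfsg.Agent.S0111

/-!
# A group with two classes of involutions with centralisers of orders 12 and 8

A four-group of involutions of the second class, permuted transitively in its normaliser, which contains the
centralisers of these involutions: the group is the symmetric group of degree five.
-/

set_option autoImplicit false
set_option linter.style.haveILetI false
set_option linter.unusedSectionVars false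

namespace Cfsg.Agent.J4Seven

open Subgroup
open scoped commutatorElement

universe u

/-- In a 2-group with an involution whose centraliser has order at most four an elementary four-group is
self-centralising. -/
theorem four_self_cent {T : Type u} [Group T] [Finite T] (hT : IsPGroup 2 T) {y : T}
    (hy : Nat.card ↥(centralizer ({y} : Set T)) ≤ 4) {W : Subgroup T} (hW : Nat.card ↥W = 4)
    (hsq : ∀ w ∈ W, w * w = 1) : centralizer (W : Set T) = W := by
  classical
  haveI : Fact (Nat.Prime 2) := ⟨Nat.prime_two⟩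
  have hWab : ∀ a ∈ W, ∀ b ∈ W, a * b = b * a := fun a ha b hb => by
    calc a * b = (a * b)⁻¹ := eq_inv_of_mul_eq_one_left (hsq _ (mul_mem ha hb))
      _ = b⁻¹ * a⁻¹ := mul_inv_rev a b
      _ = b * a := by rw [inv_eq_of_mul_eq_one_right (hsq a ha), inv_eq_of_mul_eq_one_right (hsq b hb)]
  have hWC : W ≤ centralizer (W : Set T) := fun a ha => mem_centralizer_iff.2 fun b hb => hWab b hb a ha
  by_cases hcomm : commutator T = ⊥
  · have hC : centralizer ({y} : Set T) = ⊤ := by
      rw [_root_.commutator_eq_bot_iff_center_eq_top] at hcomm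
      exact eq_top_iff.2 fun a _ => mem_centralizer_singleton_iff.2
        (mem_center_iff.1 (hcomm ▸ mem_top y : y ∈ center T) a)
    rw [hC, Nat.card_congr topEquiv.toEquiv] at hy
    refine (eq_of_le_of_card_ge hWC ?_).symm
    rw [hW]
    exact le_trans (Nat.card_le_card_of_injective _ Subtype.val_injective) hy
  -- the commutator subgroup has index four
  have hle : (commutator T).index ≤ 4 := by
    let f : T ⧸ centralizer ({y} : Set T) → ↥(commutator T) :=
      Quotient.lift (fun g => ⟨⁅g, y⁆, commutator_mem_commutator (mem_top g) (mem_top y)⟩) fun a b hab => by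
        have h1 : a⁻¹ * b ∈ centralizer ({y} : Set T) := QuotientGroup.leftRel_apply.1 hab
        have h2 := mem_centralizer_singleton_iff.1 h1
        refine Subtype.ext ?_
        show ⁅a, y⁆ = ⁅b, y⁆
        rw [commutatorElement_def, commutatorElement_def]
        calc a * y * a⁻¹ * y⁻¹ = a * (y * (a⁻¹ * b)) * b⁻¹ * y⁻¹ := by group
          _ = b * y * b⁻¹ * y⁻¹ := by rw [← h2]; group
    have hf : Function.Injective f := by
      intro p q
      induction p using Quotient.inductionOn with | _ a =>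
      induction q using Quotient.inductionOn with | _ b =>
      intro e
      have e' : ⁅a, y⁆ = ⁅b, y⁆ := congrArg Subtype.val e
      rw [commutatorElement_def, commutatorElement_def, mul_left_inj] at e'
      refine Quotient.sound (QuotientGroup.leftRel_apply.2 (mem_centralizer_singleton_iff.2 ?_))
      calc a⁻¹ * b * y = a⁻¹ * (b * y * b⁻¹) * b := by group
        _ = _ := by rw [← e']; group
    have h1 := Nat.card_le_card_of_injective f hf
    rw [← Subgroup.index] at h1
    have h2 := (centralizer ({y} : Set T)).card_mul_index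
    have h3 := (commutator T).card_mul_index
    have h4 := Nat.mul_le_mul hy h1
    rw [h2] at h4
    by_contra hcon
    push Not at hcon
    have := Nat.mul_lt_mul_of_pos_left hcon (Nat.card_pos (α := ↥(commutator T)))
    rw [h3] at this
    omega
  have hnc := PGroups.MaximalClass.not_cyclic_abelianization (p := 2) hT hcomm
  have hidx : (commutator T).index = 4 := by
    obtain ⟨j, hj⟩ := (IsPGroup.iff_card (p := 2)).1 (hT.to_quotient (commutator T))
    rw [← index_eq_card] at hj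
    have hj2 : j ≤ 2 := by
      by_contra hcon
      have := Nat.pow_le_pow_right (show 0 < 2 by norm_num) (show 3 ≤ j by omega)
      omega
    interval_cases j
    · exfalso
      rw [pow_zero, index_eq_card] at hj
      haveI : Subsingleton (T ⧸ commutator T) := (Nat.card_eq_one_iff_unique.1 hj).1
      exact hnc inferInstance
    · exact absurd (isCyclic_of_prime_card (p := 2) (by rw [← index_eq_card, hj, pow_one])) hnc
    · simpa using hj
  have hexp : ∀ x : T, x ^ 2 ∈ commutator T := fun x => by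
    rw [← QuotientGroup.eq_one_iff, QuotientGroup.mk_pow]
    exact PGroups.MaximalClass.pow_eq_one_of_not_cyclic (by rw [← index_eq_card, hidx]; norm_num) hnc _
  obtain ⟨a, ha⟩ := InvChar.Taussky.exists_cyclic _ rfl hT hidx hexp
  set A := zpowers a with hA
  have hAi : A.index = 2 := by
    have h1 := A.card_mul_index
    rw [hA, Nat.card_zpowers, ← ha] at h1
    exact Nat.eq_of_mul_eq_mul_left (orderOf_pos a) h1
  haveI hAn : A.Normal := normal_of_index_eq_two hAi
  have hAab : ∀ p ∈ A, ∀ q ∈ A, p * q = q * p := by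
    intro p hp q hq
    obtain ⟨i, rfl⟩ := mem_zpowers_iff.1 hp
    obtain ⟨k, rfl⟩ := mem_zpowers_iff.1 hq
    rw [← zpow_add, ← zpow_add, add_comm]
  obtain ⟨b, hbW, hbA⟩ : ∃ b ∈ W, b ∉ A := by
    by_contra hcon
    push Not at hcon
    haveI : IsCyclic ↥W := isCyclic_of_le (hcon : W ≤ A)
    obtain ⟨g, hg⟩ := IsCyclic.exists_ofOrder_eq_natCard (α := ↥W)
    have h1 : orderOf g ∣ 2 := orderOf_dvd_of_pow_eq_one (Subtype.ext (by
      rw [SubmonoidClass.coe_pow, pow_two]; exact hsq _ g.2))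
    rw [hg, hW] at h1
    norm_num at h1
  have hb2 := hsq b hbW
  have hbi : b⁻¹ = b := inv_eq_of_mul_eq_one_right hb2
  let φ : ↥A →* ↥A := MonoidHom.mk' (fun k => ⟨b * k * b⁻¹ * (k : T)⁻¹, mul_mem (hAn.conj_mem _ k.2 b) (inv_mem k.2)⟩)
    fun k l => Subtype.ext (by
      show b * ((k : T) * l) * b⁻¹ * ((k : T) * l)⁻¹ = b * k * b⁻¹ * (k : T)⁻¹ * (b * l * b⁻¹ * (l : T)⁻¹)
      have e := hAab (b * (l : T) * b⁻¹ * (l : T)⁻¹) (mul_mem (hAn.conj_mem _ l.2 b) (inv_mem l.2)) (k : T)⁻¹ (inv_mem k.2)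
      calc b * ((k : T) * l) * b⁻¹ * ((k : T) * l)⁻¹
          = (b * k * b⁻¹) * ((b * l * b⁻¹ * (l : T)⁻¹) * (k : T)⁻¹) := by group
        _ = _ := by rw [e]; group)
  set R := φ.range.map A.subtype with hR
  have hφ : ∀ k (hk : k ∈ A), b * k * b⁻¹ * k⁻¹ ∈ R := fun k hk => ⟨_, ⟨⟨k, hk⟩, rfl⟩, rfl⟩
  have hcov : ∀ p : T, p ∈ A ∨ ∃ k ∈ A, p = k * b := by
    intro p
    by_cases hp : p ∈ A
    · exact Or.inl hp
    · refine Or.inr ⟨p * b⁻¹, ?_, by group⟩
      rw [mul_mem_iff_of_index_two hAi, inv_mem_iff]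
      exact iff_of_false hp hbA
  have hTR : commutator T ≤ R := by
    rw [_root_.commutator_def, commutator_le]
    intro p _ q _
    rcases hcov p with hp | ⟨k, hk, rfl⟩ <;> rcases hcov q with hq | ⟨l, hl, rfl⟩
    · rw [commutatorElement_eq_one_iff_mul_comm.2 (hAab p hp q hq)]; exact one_mem _
    · rw [show ⁅p, l * b⁆ = (p * l * p⁻¹ * l⁻¹) * (l * (b * p * b⁻¹ * p⁻¹)⁻¹ * l⁻¹) by
        rw [commutatorElement_def]; group, hAab p hp l hl, mul_inv_cancel_right, mul_inv_cancel, one_mul,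
        hAab l hl _ (inv_mem (mul_mem (hAn.conj_mem _ hp b) (inv_mem hp))), mul_inv_cancel_right]
      exact inv_mem (hφ p hp)
    · rw [show ⁅k * b, q⁆ = (k * (b * q * b⁻¹ * q⁻¹) * k⁻¹) * (k * q * k⁻¹ * q⁻¹) by
        rw [commutatorElement_def]; group, hAab k hk q hq, mul_inv_cancel_right, mul_inv_cancel, mul_one,
        hAab k hk _ (mul_mem (hAn.conj_mem _ hq b) (inv_mem hq)), mul_inv_cancel_right]
      exact hφ q hq
    · have e1 : ⁅k * b, l * b⁆ = k * (b * l * b⁻¹) * (b * k * b⁻¹)⁻¹ * l⁻¹ := by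
        rw [commutatorElement_def]
        group
      have hbl := hAn.conj_mem _ hl b
      have hbk := inv_mem (hAn.conj_mem _ hk b)
      have e2 : k * (b * l * b⁻¹) * (b * k * b⁻¹)⁻¹ * l⁻¹ =
          (b * l * b⁻¹ * l⁻¹) * (b * k * b⁻¹ * k⁻¹)⁻¹ := by
        calc k * (b * l * b⁻¹) * (b * k * b⁻¹)⁻¹ * l⁻¹
            = (b * l * b⁻¹) * k * ((b * k * b⁻¹)⁻¹ * l⁻¹) := by rw [hAab k hk _ hbl]; group
          _ = (b * l * b⁻¹) * (k * (l⁻¹ * (b * k * b⁻¹)⁻¹)) := by rw [hAab _ hbk _ (inv_mem hl)]; group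
          _ = (b * l * b⁻¹) * (l⁻¹ * k * (b * k * b⁻¹)⁻¹) := by rw [← hAab k hk _ (inv_mem hl)]; group
          _ = _ := by group
      rw [e1, e2]
      exact mul_mem (hφ l hl) (inv_mem (hφ k hk))
  have hker : Nat.card ↥φ.ker ≤ 2 := by
    have h1 := φ.ker.card_mul_index
    rw [index_ker] at h1
    have h2 : Nat.card ↥(commutator T) ≤ Nat.card ↥R := card_le_of_le hTR
    rw [hR, card_map_of_injective A.subtype_injective] at h2
    have h3 := (commutator T).card_mul_index
    rw [hidx] at h3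
    have h4 := A.card_mul_index
    rw [hAi] at h4
    have h5 : Nat.card ↥φ.ker * Nat.card ↥φ.range ≤ 2 * Nat.card ↥φ.range := by omega
    exact Nat.le_of_mul_le_mul_right h5 Nat.card_pos
  refine (eq_of_le_of_card_ge hWC ?_).symm
  rw [hW]
  set C := centralizer (W : Set T)
  have h1 := (A.subgroupOf C).card_mul_index
  have h2 : (A.subgroupOf C).index ≤ 2 :=
    Nat.le_of_dvd (by norm_num) (hAi ▸ relIndex_dvd_index_of_normal A C)
  have h3 : Nat.card ↥(A.subgroupOf C) ≤ 2 := by
    refine le_trans (Nat.card_le_card_of_injective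
      (fun v => (⟨⟨(v.1 : T), v.2⟩, Subtype.ext ?_⟩ : ↥φ.ker)) fun v w e => ?_) hker
    · show b * (v.1 : T) * b⁻¹ * (v.1 : T)⁻¹ = 1
      rw [mem_centralizer_iff.1 v.1.2 b hbW, mul_inv_cancel_right, mul_inv_cancel]
    · exact Subtype.ext (Subtype.ext (congrArg (fun t : ↥φ.ker => ((t.1 : ↥A) : T)) e))
  calc Nat.card ↥C = Nat.card ↥(A.subgroupOf C) * (A.subgroupOf C).index := h1.symm
    _ ≤ 2 * 2 := Nat.mul_le_mul h3 h2

variable {J : Type u} [Group J] [Finite J]

/-- The hypotheses. -/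
structure Local (W : Subgroup J) (Tz : J → Prop) : Prop where
  card : Nat.card ↥W = 4
  sq : ∀ w ∈ W, w * w = 1
  off : ∀ w ∈ W, ¬ Tz w
  inv : ∀ a, Tz a → a * a = 1
  conj : ∀ g a, Tz a → Tz (g * a * g⁻¹)
  ex : ∃ y, Tz y
  dvd : ∀ a, Tz a → Nat.card ↥(centralizer ({a} : Set J)) ∣ 12
  three : ∀ a, Tz a → 3 ∣ Nat.card ↥(centralizer ({a} : Set J))
  cent : ∀ u ∈ W, u ≠ 1 → centralizer ({u} : Set J) ≤ normalizer (W : Set J)
  two : IsPGroup 2 ↥(centralizer (W : Set J))
  move : ∃ k ∈ normalizer (W : Set J), ∀ u ∈ W, u ≠ 1 → k * u * k⁻¹ ≠ u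

theorem four_cases {W : Subgroup J} (hW : Nat.card ↥W = 4) {u w v : J} (hu : u ∈ W) (hw : w ∈ W) (hu1 : u ≠ 1)
    (hw1 : w ≠ 1) (hwu : w ≠ u) (hwu' : w * u ≠ 1) (hv : v ∈ W) : v = 1 ∨ v = u ∨ v = w ∨ v = w * u := by
  classical
  by_contra hcon
  push Not at hcon
  obtain ⟨a, b, c, d⟩ := hcon
  haveI := Fintype.ofFinite ↥W
  have h5 : ({⟨1, W.one_mem⟩, ⟨u, hu⟩, ⟨w, hw⟩, ⟨w * u, mul_mem hw hu⟩, ⟨v, hv⟩} : Finset ↥W).card = 5 := by
    have e1 : w * u ≠ u := fun e => hw1 (mul_eq_right.1 e)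
    have e2 : w * u ≠ w := fun e => hu1 (mul_eq_left.1 e)
    simp [Subtype.ext_iff, hu1.symm, hw1.symm, hwu.symm, hwu'.symm, a.symm, b.symm, c.symm, d.symm, e1.symm, e2.symm]
  have h := Finset.card_le_univ ({⟨1, W.one_mem⟩, ⟨u, hu⟩, ⟨w, hw⟩, ⟨w * u, mul_mem hw hu⟩, ⟨v, hv⟩} : Finset ↥W)
  rw [h5, ← Nat.card_eq_fintype_card, hW] at h
  omega

theorem conj_mem_nrm {W : Subgroup J} {g a : J} (hg : g ∈ normalizer (W : Set J)) (ha : a ∈ W) :
    g * a * g⁻¹ ∈ W := (mem_normalizer_iff.1 hg a).1 ha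

/-- The symmetric group of degree five. -/
theorem Local.perm_five {W : Subgroup J} {Tz : J → Prop} (h : Local W Tz) :
    Nat.card J = 120 ∧ Nonempty (J ≃* Equiv.Perm (Fin 5)) ∧ ∀ a b, Tz a → Tz b → IsConj a b := by
  classical
  haveI : Fact (Nat.Prime 2) := ⟨Nat.prime_two⟩
  obtain ⟨T, hT⟩ := h.two.exists_le_sylow
  have hWC : W ≤ centralizer (W : Set J) := fun a ha => mem_centralizer_iff.2 fun b hb => by
    calc b * a = (b * a)⁻¹ := eq_inv_of_mul_eq_one_left (h.sq _ (mul_mem hb ha))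
      _ = a⁻¹ * b⁻¹ := mul_inv_rev b a
      _ = a * b := by rw [inv_eq_of_mul_eq_one_right (h.sq a ha), inv_eq_of_mul_eq_one_right (h.sq b hb)]
  have hWT : W ≤ (T : Subgroup J) := hWC.trans hT
  obtain ⟨y₀, hy₀⟩ := h.ex
  obtain ⟨g₀, hg₀⟩ : ∃ g, g * y₀ * g⁻¹ ∈ (T : Subgroup J) := by
    have hp : IsPGroup 2 ↥(zpowers y₀) := by
      have hd : orderOf y₀ ∣ 2 := orderOf_dvd_of_pow_eq_one (by rw [pow_two, h.inv _ hy₀])
      obtain ⟨i, -, hi⟩ := (Nat.dvd_prime_pow Nat.prime_two).1 (show orderOf y₀ ∣ 2 ^ 1 by rwa [pow_one])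
      exact IsPGroup.of_card (n := i) (by rw [Nat.card_zpowers, hi])
    obtain ⟨S, hS⟩ := hp.exists_le_sylow
    obtain ⟨g, hg⟩ := MulAction.exists_smul_eq J S T
    refine ⟨g, ?_⟩
    rw [← hg, Sylow.coe_subgroup_smul]
    exact ⟨y₀, hS (mem_zpowers y₀), rfl⟩
  set y := g₀ * y₀ * g₀⁻¹ with hy
  have hyT : Tz y := h.conj _ _ hy₀
  have hyy := h.inv _ hyT
  have hyW : y ∉ W := fun e => h.off _ e hyT
  -- the centraliser of the four-group
  have hCW : centralizer (W : Set J) = W := by
    have hy4 : Nat.card ↥(centralizer ({(⟨y, hg₀⟩ : ↥(T : Subgroup J))} : Set ↥(T : Subgroup J))) ≤ 4 := by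
      have hle := card_dvd_of_injective
        ({ toFun := fun a => ⟨((a : ↥(T : Subgroup J)) : J), mem_centralizer_singleton_iff.2
             (congrArg Subtype.val (mem_centralizer_singleton_iff.1 a.2))⟩
           map_one' := rfl
           map_mul' := fun _ _ => rfl } :
          ↥(centralizer ({(⟨y, hg₀⟩ : ↥(T : Subgroup J))} : Set ↥(T : Subgroup J))) →* ↥(centralizer ({y} : Set J)))
        (fun a b e => Subtype.ext (Subtype.ext (congrArg (fun t : ↥(centralizer ({y} : Set J)) => (t : J)) e)))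
      obtain ⟨j, hj⟩ := (IsPGroup.iff_card (p := 2)).1
        (T.isPGroup'.to_subgroup (centralizer ({(⟨y, hg₀⟩ : ↥(T : Subgroup J))} : Set ↥(T : Subgroup J))))
      rw [hj] at hle ⊢
      have h12 := hle.trans (h.dvd _ hyT)
      by_contra hcon
      have hj3 : 3 ≤ j := by
        by_contra h3
        have := Nat.pow_le_pow_right (show 0 < 2 by norm_num) (show j ≤ 2 by omega)
        omega
      have := (pow_dvd_pow 2 hj3).trans h12
      norm_num at this
    have hWc : Nat.card ↥(W.subgroupOf (T : Subgroup J)) = 4 := by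
      rw [Nat.card_congr (subgroupOfEquivOfLe hWT).toEquiv, h.card]
    have he := four_self_cent T.isPGroup' hy4 hWc fun w hw => Subtype.ext (h.sq _ (mem_subgroupOf.1 hw))
    refine le_antisymm (fun c hc => ?_) hWC
    have : (⟨c, hT hc⟩ : ↥(T : Subgroup J)) ∈ W.subgroupOf (T : Subgroup J) := by
      rw [← he]
      exact mem_centralizer_iff.2 fun w hw => Subtype.ext (mem_centralizer_iff.1 hc _ (mem_subgroupOf.1 hw))
    exact mem_subgroupOf.1 this
  -- a central element of the Sylow subgroup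
  obtain ⟨u, huW, hu1, huT⟩ : ∃ u ∈ W, u ≠ 1 ∧ ∀ s ∈ (T : Subgroup J), s * u = u * s := by
    haveI : Nontrivial ↥(T : Subgroup J) := Finite.one_lt_card_iff_nontrivial.1
      (lt_of_lt_of_le (by rw [h.card]; norm_num) (card_le_of_le hWT))
    haveI := T.isPGroup'.center_nontrivial
    obtain ⟨⟨⟨v, hvT⟩, hvc⟩, hv1⟩ := exists_ne (1 : center ↥(T : Subgroup J))
    have hv1' : v ≠ 1 := fun e => hv1 (Subtype.ext (Subtype.ext e))
    have hcomm : ∀ s ∈ (T : Subgroup J), s * v = v * s := fun s hs =>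
      congrArg Subtype.val (mem_center_iff.1 hvc ⟨s, hs⟩)
    refine ⟨v, ?_, hv1', hcomm⟩
    rw [← hCW]
    exact mem_centralizer_iff.2 fun w hw => hcomm w (hWT hw)
  have hTN : (T : Subgroup J) ≤ normalizer (W : Set J) := fun s hs =>
    h.cent u huW hu1 (mem_centralizer_singleton_iff.2 (huT s hs))
  have hyu : y * u * y⁻¹ = u := by rw [huT y hg₀, mul_inv_cancel_right]
  -- the action on the four-group
  have swap : ∀ v ∈ normalizer (W : Set J), ∀ p ∈ W, p ≠ 1 → v * p * v⁻¹ = p → v ∉ W → ∀ q ∈ W, q ≠ 1 →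
      q ≠ p → v * q * v⁻¹ = q * p := by
    intro v hv p hp hp1 hvp hvW q hq hq1 hqp
    have hqp' : q * p ≠ 1 := fun e => hqp (by rw [eq_inv_of_mul_eq_one_left e, inv_eq_of_mul_eq_one_right (h.sq p hp)])
    rcases four_cases h.card hp hq hp1 hq1 hqp hqp' (conj_mem_nrm hv hq) with e | e | e | e
    · exact absurd (conj_eq_one_iff.1 e) hq1
    · exact absurd (mul_left_cancel (mul_right_cancel (e.trans hvp.symm))) hqp
    · exfalso
      refine hvW (hCW ▸ mem_centralizer_iff.2 fun r hr => ?_)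
      have hr' : v * r * v⁻¹ = r := by
        rcases four_cases h.card hp hq hp1 hq1 hqp hqp' hr with rfl | rfl | rfl | rfl
        · group
        · exact hvp
        · exact e
        · rw [show v * (q * p) * v⁻¹ = (v * q * v⁻¹) * (v * p * v⁻¹) by group, e, hvp]
      exact (mul_inv_eq_iff_eq_mul.1 hr').symm
    · exact e
  obtain ⟨w, hwW, hw1, hwu⟩ : ∃ w ∈ W, w ≠ 1 ∧ w ≠ u := by
    by_contra hcon
    push Not at hcon
    haveI := Fintype.ofFinite ↥W
    have hs : (Finset.univ : Finset ↥W) ⊆ {⟨1, W.one_mem⟩, ⟨u, huW⟩} := fun v _ => by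
      by_cases hv : (v : J) = 1
      · simp [Subtype.ext_iff, hv]
      · simp [Subtype.ext_iff, hcon v v.2 hv]
    have := Finset.card_le_card hs
    rw [Finset.card_univ, ← Nat.card_eq_fintype_card, h.card] at this
    have := this.trans Finset.card_le_two
    omega
  have hwu' : w * u ≠ 1 := fun e => hwu (by
    rw [eq_inv_of_mul_eq_one_left e, inv_eq_of_mul_eq_one_right (h.sq u huW)])
  have hTN' : ∀ v ∈ normalizer (W : Set J), v * u = u * v → v ∈ W ∨ y⁻¹ * v ∈ W := by
    intro v hv hvu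
    by_contra hcon
    push Not at hcon
    obtain ⟨hv1, hv2⟩ := hcon
    have e1 := swap v hv u huW hu1 (by rw [hvu, mul_inv_cancel_right]) hv1 w hwW hw1 hwu
    have e2 := swap y (hTN hg₀) u huW hu1 hyu hyW w hwW hw1 hwu
    have hn : y⁻¹ * v ∈ normalizer (W : Set J) := mul_mem (inv_mem (hTN hg₀)) hv
    have hfix : y⁻¹ * v * u * (y⁻¹ * v)⁻¹ = u := by
      calc y⁻¹ * v * u * (y⁻¹ * v)⁻¹ = y⁻¹ * (v * u * v⁻¹) * y := by group
        _ = y⁻¹ * (y * u * y⁻¹) * y := by rw [hvu, mul_inv_cancel_right, hyu]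
        _ = u := by group
    have e3 := swap _ hn u huW hu1 hfix hv2 w hwW hw1 hwu
    have e4 : y⁻¹ * v * w * (y⁻¹ * v)⁻¹ = w := by
      calc y⁻¹ * v * w * (y⁻¹ * v)⁻¹ = y⁻¹ * (v * w * v⁻¹) * y := by group
        _ = y⁻¹ * (y * w * y⁻¹) * y := by rw [e1, e2]
        _ = w := by group
    rw [e4] at e3
    exact hu1 (mul_eq_left.1 e3.symm)
  have hT8 : Nat.card ↥(T : Subgroup J) = 8 := by
    have h1 : Nat.card ↥(T : Subgroup J) ≤ 8 := by
      refine (show Nat.card ↥(T : Subgroup J) ≤ Nat.card (↥W × Bool) from ?_).trans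
        (by rw [Nat.card_prod, h.card]; simp)
      refine Nat.card_le_card_of_injective (fun s => if hs : (s : J) ∈ W then (⟨(s : J), hs⟩, false) else
        (⟨y⁻¹ * s, (hTN' s (hTN s.2) (huT s s.2)).resolve_left hs⟩, true)) fun a b e => ?_
      by_cases ha : (a : J) ∈ W <;> by_cases hb : (b : J) ∈ W <;> simp [ha, hb] at e
      · exact e
      · exact e
    obtain ⟨j, hj⟩ := (IsPGroup.iff_card (p := 2)).1 T.isPGroup'
    have h2 := card_dvd_of_le hWT
    rw [h.card] at h2
    have hne : Nat.card ↥(T : Subgroup J) ≠ 4 := fun e => hyW (by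
      rw [eq_of_le_of_card_ge hWT (by rw [e, h.card])]; exact hg₀)
    rw [hj] at h1 h2 hne ⊢
    have hj3 : j ≤ 3 := by
      by_contra hcon
      have := Nat.pow_le_pow_right (show 0 < 2 by norm_num) (show 4 ≤ j by omega)
      omega
    interval_cases j <;> simp at h2 hne ⊢
  have hswap_y := swap y (hTN hg₀) u huW hu1 hyu hyW w hwW hw1 hwu
  have hTz_T : ∀ s ∈ (T : Subgroup J), Tz s → IsConj y s := by
    intro s hs hsT
    obtain ⟨v, hv, e⟩ : ∃ v ∈ W, y⁻¹ * s = v := ⟨_, (hTN' s (hTN hs) (huT s hs)).resolve_left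
      (fun e => h.off _ e hsT), rfl⟩
    rw [inv_mul_eq_iff_eq_mul] at e
    subst e
    have huw : u * w = w * u := mem_centralizer_iff.1 (hWC hwW) u huW
    rcases four_cases h.card huW hwW hu1 hw1 hwu hwu' hv with e | e | e | e <;> rw [e] at hsT ⊢
    · rw [mul_one]
    · refine isConj_iff.2 ⟨w, ?_⟩
      calc w * y * w⁻¹ = y * ((y⁻¹ * w * y) * w⁻¹) := by group
        _ = y * ((y * w * y⁻¹) * w⁻¹) := by rw [inv_eq_of_mul_eq_one_right hyy]
        _ = y * u := by rw [hswap_y, ← huw, mul_inv_cancel_right]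
    · exfalso
      have h2 := h.inv _ hsT
      rw [show y * w * (y * w) = (y * w * y⁻¹) * ((y * y) * w) by group, hyy, one_mul, hswap_y,
        ← huw, mul_assoc, h.sq w hwW, mul_one] at h2
      exact hu1 h2
    · exfalso
      have h2 := h.inv _ hsT
      rw [show y * (w * u) * (y * (w * u)) = ((y * w * y⁻¹) * (y * u * y⁻¹)) * ((y * y) * (w * u)) by group,
        hyy, one_mul, hswap_y, hyu, mul_assoc w u u, h.sq u huW, mul_one, ← mul_assoc, h.sq w hwW, one_mul] at h2
      exact hu1 h2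
  have hclass : ∀ a, Tz a → IsConj y a := by
    intro a ha
    have hp : IsPGroup 2 ↥(zpowers a) := by
      obtain ⟨i, -, hi⟩ := (Nat.dvd_prime_pow Nat.prime_two).1
        (show orderOf a ∣ 2 ^ 1 from orderOf_dvd_of_pow_eq_one (by rw [pow_one, pow_two, h.inv _ ha]))
      exact IsPGroup.of_card (n := i) (by rw [Nat.card_zpowers, hi])
    obtain ⟨S, hS⟩ := hp.exists_le_sylow
    obtain ⟨g, hg⟩ := MulAction.exists_smul_eq J S T
    have hm : g * a * g⁻¹ ∈ (T : Subgroup J) := by
      rw [← hg, Sylow.coe_subgroup_smul]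
      exact ⟨a, hS (mem_zpowers a), rfl⟩
    exact (hTz_T _ hm (h.conj _ _ ha)).trans (isConj_iff.2 ⟨g, rfl⟩).symm
  -- the subgroup of index two
  have hrel : W.relIndex (T : Subgroup J) = 2 := by
    have h1 := (W.subgroupOf (T : Subgroup J)).card_mul_index
    rw [Nat.card_congr (subgroupOfEquivOfLe hWT).toEquiv, h.card, hT8] at h1
    rw [relIndex]; omega
  have hy2 : orderOf y = 2 := orderOf_eq_prime (by rw [pow_two, hyy]) fun e => hyW (e ▸ W.one_mem)
  obtain ⟨M, hMn, hMi, hyM⟩ := (Cfsg.Agent.S0111.result T W hWT hrel y hy2 hg₀ hyW).resolve_right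
    fun ⟨g, hg⟩ => h.off _ hg (h.conj _ _ hyT)
  obtain ⟨k, hkN, hkmove⟩ := h.move
  have huM : u ∈ M := by
    have e : y * w * y⁻¹ * w⁻¹ = u := by
      rw [hswap_y, ← mem_centralizer_iff.1 (hWC hwW) u huW, mul_inv_cancel_right]
    rw [← e, mul_mem_iff_of_index_two hMi, mul_mem_iff_of_index_two hMi, mul_mem_iff_of_index_two hMi]
    simp only [inv_mem_iff]
    tauto
  have hku := hkmove u huW hu1
  have hku1 : k * u * k⁻¹ ≠ 1 := fun e => hu1 (conj_eq_one_iff.1 e)
  have hkW := conj_mem_nrm hkN huW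
  have all_of : ∀ S : Subgroup J, u ∈ S → k * u * k⁻¹ ∈ S → W ≤ S := fun S h1 h2 v hv => by
    rcases four_cases h.card huW hkW hu1 hku1 hku (fun e => hku (by
      rw [eq_inv_of_mul_eq_one_left e, inv_eq_of_mul_eq_one_right (h.sq u huW)])) hv with rfl | rfl | rfl | rfl
    exacts [one_mem _, h1, h2, mul_mem h2 h1]
  have hWM : W ≤ M := all_of M huM (hMn.conj_mem u huM k)
  have hNW : ∀ v ∈ normalizer (W : Set J), ∀ p ∈ W, p ≠ 1 → v * p = p * v → v ∈ M → v ∈ W := by
    intro v hv p hp hp1 hvp hvM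
    by_contra hvW
    obtain ⟨c, hcN, hcp⟩ : ∃ c ∈ normalizer (W : Set J), c * p * c⁻¹ = u := by
      rcases four_cases h.card huW hkW hu1 hku1 hku (fun e => hku (by
        rw [eq_inv_of_mul_eq_one_left e, inv_eq_of_mul_eq_one_right (h.sq u huW)])) hp with rfl | rfl | rfl | rfl
      · exact absurd rfl hp1
      · exact ⟨1, one_mem _, by group⟩
      · exact ⟨k⁻¹, inv_mem hkN, by group⟩
      · refine ⟨k, hkN, ?_⟩
        have hk3 := hkmove _ hkW hku1
        rcases four_cases h.card huW hkW hu1 hku1 hku (fun e => hku (by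
          rw [eq_inv_of_mul_eq_one_left e, inv_eq_of_mul_eq_one_right (h.sq u huW)])) (conj_mem_nrm hkN hkW)
          with e | e | e | e
        · exact absurd (conj_eq_one_iff.1 e) hku1
        · exact absurd (show k * (k * u * k⁻¹ * u) * k⁻¹ = k * u * k⁻¹ * u by
            rw [show k * (k * u * k⁻¹ * u) * k⁻¹ = k * (k * u * k⁻¹) * k⁻¹ * (k * u * k⁻¹) by group, e,
              mem_centralizer_iff.1 (hWC hkW) u huW]) (hkmove _ hp hp1)
        · exact absurd e hk3
        · calc k * (k * u * k⁻¹ * u) * k⁻¹ = k * (k * u * k⁻¹) * k⁻¹ * (k * u * k⁻¹) := by group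
            _ = k * u * k⁻¹ * u * (k * u * k⁻¹) := by rw [e]
            _ = u * (k * u * k⁻¹) * (k * u * k⁻¹) := by rw [mem_centralizer_iff.1 (hWC hkW) u huW]
            _ = u := by rw [mul_assoc u, h.sq _ hkW, mul_one]
    have h1 : c * v * c⁻¹ * u = u * (c * v * c⁻¹) := by
      rw [← hcp, conj_mul, conj_mul, hvp]
    rcases hTN' (c * v * c⁻¹) (mul_mem (mul_mem hcN hv) (inv_mem hcN)) h1 with e | e
    · exact hvW (by simpa [mul_assoc] using conj_mem_nrm (inv_mem hcN) e)
    · have h2 : c * v * c⁻¹ ∈ M := hMn.conj_mem v hvM c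
      have h3 := hWM e
      rw [mul_mem_iff_of_index_two hMi, inv_mem_iff] at h3
      exact hyM (h3.2 h2)
  set U := W.subgroupOf M with hU
  have hyp : Cfsg.Agent.JankoTwo.Four.Hyp U := by
    refine ⟨by rw [hU, Nat.card_congr (subgroupOfEquivOfLe hWM).toEquiv, h.card],
      fun v hv => Subtype.ext (h.sq _ (mem_subgroupOf.1 hv)), fun v hv hv1 => le_antisymm (fun s hs => ?_) fun s hs => ?_⟩
    · have hv' := mem_subgroupOf.1 hv
      have hv1' : (v : J) ≠ 1 := fun e => hv1 (Subtype.ext e)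
      have hsv : (s : J) * v = v * s := congrArg Subtype.val (mem_centralizer_singleton_iff.1 hs)
      exact mem_subgroupOf.2 (hNW s (h.cent _ hv' hv1' (mem_centralizer_singleton_iff.2 hsv)) v hv' hv1' hsv s.2)
    · exact mem_centralizer_singleton_iff.2 (Subtype.ext
        (mem_centralizer_iff.1 (hWC (mem_subgroupOf.1 hv)) _ (mem_subgroupOf.1 hs)))
  have hJM : Nat.card J = 2 * Nat.card ↥M := by rw [← M.card_mul_index, hMi, mul_comm]
  set N := normalizer (W : Set J) with hNdef
  have hN24 : Nat.card ↥N = 24 := by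
    have hle : Nat.card ↥N ≤ 24 := by
      refine (show Nat.card ↥N ≤ Nat.card ({v : ↥W // v ≠ 1} × ↥(T : Subgroup J)) from ?_).trans ?_
      · have hc : ∀ v : {v : ↥W // v ≠ 1}, ∃ c ∈ N, c * u * c⁻¹ = ((v.1 : ↥W) : J) := by
          rintro ⟨⟨v, hv⟩, hv1⟩
          have hkk := conj_mem_nrm hkN hkW
          rcases four_cases h.card huW hkW hu1 hku1 hku (fun e => hku (by
            rw [eq_inv_of_mul_eq_one_left e, inv_eq_of_mul_eq_one_right (h.sq u huW)])) hv with rfl | rfl | rfl | rfl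
          · exact absurd rfl hv1
          · exact ⟨1, one_mem _, by group⟩
          · exact ⟨k, hkN, rfl⟩
          · refine ⟨k * k, mul_mem hkN hkN, ?_⟩
            rw [show k * k * u * (k * k)⁻¹ = k * (k * u * k⁻¹) * k⁻¹ by group]
            rcases four_cases h.card huW hkW hu1 hku1 hku (fun e => hku (by
              rw [eq_inv_of_mul_eq_one_left e, inv_eq_of_mul_eq_one_right (h.sq u huW)])) hkk with e | e | e | e
            · exact absurd (conj_eq_one_iff.1 e) hku1
            · exfalso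
              refine hkmove _ hv (fun e' => hv1 (Subtype.ext e')) ?_
              rw [show k * (k * u * k⁻¹ * u) * k⁻¹ = k * (k * u * k⁻¹) * k⁻¹ * (k * u * k⁻¹) by group, e,
                mem_centralizer_iff.1 (hWC hkW) u huW]
            · exact absurd e (hkmove _ hkW hku1)
            · exact e
        choose c hcN hcu using hc
        let v0 : ↥N → {v : ↥W // v ≠ 1} := fun n =>
          ⟨⟨(n : J) * u * (n : J)⁻¹, conj_mem_nrm n.2 huW⟩, fun e => hu1 (conj_eq_one_iff.1 (congrArg Subtype.val e))⟩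
        have hmem : ∀ n : ↥N, (c (v0 n))⁻¹ * n ∈ (T : Subgroup J) := fun n => by
          have hfix : (c (v0 n))⁻¹ * n * u = u * ((c (v0 n))⁻¹ * n) := by
            have e1 : c (v0 n) * u * (c (v0 n))⁻¹ = (n : J) * u * (n : J)⁻¹ := hcu (v0 n)
            calc (c (v0 n))⁻¹ * n * u = (c (v0 n))⁻¹ * ((n : J) * u * (n : J)⁻¹) * n := by group
              _ = _ := by rw [← e1]; group
          rcases hTN' _ (mul_mem (inv_mem (hcN _)) n.2) hfix with e | e
          · exact hWT e
          · simpa using mul_mem hg₀ (hWT e)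
        refine Nat.card_le_card_of_injective (fun n => (v0 n, ⟨_, hmem n⟩)) fun a b e => ?_
        simp only [Prod.mk.injEq] at e
        have e2 : (c (v0 a))⁻¹ * a = (c (v0 b))⁻¹ * b := congrArg Subtype.val e.2
        rw [e.1] at e2
        exact Subtype.ext (mul_left_cancel e2)
      · haveI := Fintype.ofFinite ↥W
        rw [Nat.card_prod, hT8, Nat.card_eq_fintype_card, Fintype.card_subtype_compl,
          ← Nat.card_eq_fintype_card, h.card, Fintype.card_subtype_eq]
    have h8 : 8 ∣ Nat.card ↥N := hT8 ▸ card_dvd_of_le hTN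
    obtain ⟨q, hq⟩ := h8
    have hq0 : q ≠ 0 := fun e => by rw [e, mul_zero] at hq; exact Nat.card_pos.ne' hq
    have hq1 : q ≠ 1 := by
      intro e
      rw [e, mul_one] at hq
      have hNT := eq_of_le_of_card_ge hTN (by rw [hT8, hq])
      exact hku (by rw [huT k (hNT ▸ hkN), mul_inv_cancel_right])
    have hq2 : q ≠ 2 := by
      intro e
      have hdvd := card_dvd_of_le (le_top : N ≤ ⊤)
      rw [Nat.card_congr topEquiv.toEquiv, hq, e] at hdvd
      have h16 : 2 ^ 4 ∣ Nat.card J := dvd_trans (by norm_num) hdvd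
      have h5 := T.pow_dvd_card_of_pow_dvd_card h16
      rw [hT8] at h5
      norm_num at h5
    rw [hq] at hle ⊢
    omega
  have hM : Nat.card ↥M = 60 := by
    rcases hyp.card_mem with e | e | e
    · exfalso
      have h1 : Nat.card ↥N ≤ Nat.card J := Nat.card_le_card_of_injective _ Subtype.val_injective
      rw [hN24, hJM, e] at h1
      norm_num at h1
    · exfalso
      have hNtop : N = ⊤ := eq_top_of_card_eq _ (by rw [hN24, hJM, e])
      haveI : Fact (Nat.Prime 3) := ⟨Nat.prime_three⟩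
      obtain ⟨⟨r, hr⟩, hr3⟩ := exists_prime_orderOf_dvd_card' (G := ↥(centralizer ({y} : Set J))) 3 (h.three _ hyT)
      rw [Subgroup.orderOf_mk] at hr3
      have hrN : r ∈ N := hNtop ▸ mem_top r
      have hry : Commute r y := mem_centralizer_singleton_iff.1 hr
      have hru : r * u * r⁻¹ = u := by
        have hy' : y * (r * u * r⁻¹) * y⁻¹ = r * u * r⁻¹ := by
          calc y * (r * u * r⁻¹) * y⁻¹ = (y * r) * u * (y * r)⁻¹ := by group
            _ = r * (y * u * y⁻¹) * r⁻¹ := by rw [← hry.eq]; group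
            _ = _ := by rw [hyu]
        by_contra hne
        have := swap y (hTN hg₀) u huW hu1 hyu hyW _ (conj_mem_nrm hrN huW) (fun e => hu1 (conj_eq_one_iff.1 e)) hne
        rw [hy'] at this
        exact hu1 (mul_eq_left.1 this.symm)
      have hrT : r ∈ (T : Subgroup J) := by
        rcases hTN' r hrN (mul_inv_eq_iff_eq_mul.1 hru) with e | e
        · exact hWT e
        · simpa using mul_mem hg₀ (hWT e)
      have := (T : Subgroup J).orderOf_dvd_natCard hrT
      rw [hr3, hT8] at this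
      norm_num at this
    · exact e
  have hJ : Nat.card J = 120 := by rw [hJM, hM]
  refine ⟨hJ, ?_, fun a b ha hb => (hclass a ha).symm.trans (hclass b hb)⟩
  -- the action on five points
  have hidx : N.index = 5 := by
    have h1 := N.card_mul_index
    rw [hN24, hJ] at h1
    omega
  have hcore : N.normalCore = ⊥ := by
    set K := N.normalCore
    have hKN : K ≤ N := normalCore_le N
    by_contra hne
    have hex : ∃ v ∈ W, v ∈ K ∧ v ≠ 1 := by
      by_contra hcon
      push Not at hcon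
      refine hne ((eq_bot_iff_forall _).2 fun c hc => ?_)
      have hcC : c ∈ centralizer (W : Set J) := mem_centralizer_iff.2 fun v hv => by
        have h1 : c * v * c⁻¹ * v⁻¹ ∈ W := mul_mem (conj_mem_nrm (hKN hc) hv) (inv_mem hv)
        have h2 : c * v * c⁻¹ * v⁻¹ ∈ K := by
          rw [show c * v * c⁻¹ * v⁻¹ = c * (v * c⁻¹ * v⁻¹) by group]
          exact mul_mem hc ((normalCore_normal N).conj_mem _ (inv_mem hc) v)
        have h3 := hcon _ h1 h2
        rw [mul_inv_eq_one, mul_inv_eq_iff_eq_mul] at h3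
        exact h3.symm
      exact hcon c (hCW ▸ hcC) hc
    obtain ⟨v, hvW, hvK, hv1⟩ := hex
    have hKM : ∀ g : J, W.map (MulAut.conj g).toMonoidHom ≤ W := by
      have hWK : W ≤ K := by
        have hkv : k * v * k⁻¹ ∈ K := (normalCore_normal N).conj_mem v hvK k
        have hkvW := conj_mem_nrm hkN hvW
        have hne' := hkmove v hvW hv1
        intro r hr
        rcases four_cases h.card hvW hkvW hv1 (fun e => hv1 (conj_eq_one_iff.1 e)) hne' (fun e => hne' (by
          rw [eq_inv_of_mul_eq_one_left e, inv_eq_of_mul_eq_one_right (h.sq v hvW)])) hr with rfl | rfl | rfl | rfl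
        exacts [one_mem _, hvK, hkv, mul_mem hkv hvK]
      rintro g _ ⟨r, hr, rfl⟩
      set r' := g * r * g⁻¹
      have hr'N : r' ∈ N := hKN ((normalCore_normal N).conj_mem r (hWK hr) g)
      have hr'M : r' ∈ M := hMn.conj_mem r (hWM hr) g
      have hr2 : r' * r' = 1 := by rw [conj_mul, h.sq r hr, mul_one, mul_inv_cancel]
      show r' ∈ W
      by_contra hr'
      have hinv : r'⁻¹ = r' := inv_eq_of_mul_eq_one_right hr2
      by_cases hfix : r' * u * r'⁻¹ = u
      · exact hr' (hNW r' hr'N u huW hu1 (mul_inv_eq_iff_eq_mul.1 hfix) hr'M)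
      · set p := r' * u * r'⁻¹ * u
        have hpW : p ∈ W := mul_mem (conj_mem_nrm hr'N huW) huW
        have hp1 : p ≠ 1 := fun e => hfix (by
          rw [eq_inv_of_mul_eq_one_left e, inv_eq_of_mul_eq_one_right (h.sq u huW)])
        refine hr' (hNW r' hr'N p hpW hp1 (mul_inv_eq_iff_eq_mul.1 ?_) hr'M)
        calc r' * p * r'⁻¹ = (r' * r') * u * (r'⁻¹ * r'⁻¹) * (r' * u * r'⁻¹) := by simp only [p]; group
          _ = u * (r' * u * r'⁻¹) := by rw [hinv, hr2]; group
          _ = p := mem_centralizer_iff.1 (hWC (conj_mem_nrm hr'N huW)) u huW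
    have hNtop : N = ⊤ := eq_top_iff.2 fun g _ => mem_normalizer_iff.2 fun r =>
      ⟨fun hr => hKM g ⟨r, hr, rfl⟩, fun hr => by
        have := hKM g⁻¹ ⟨_, hr, rfl⟩
        simpa [mul_assoc] using this⟩
    rw [hNtop, index_top] at hidx
    norm_num at hidx
  haveI := Fintype.ofFinite (J ⧸ N)
  have hinj : Function.Injective (MulAction.toPermHom J (J ⧸ N)) := by
    rw [← MonoidHom.ker_eq_bot_iff, ← normalCore_eq_ker]; exact hcore
  have hbij : Function.Bijective (MulAction.toPermHom J (J ⧸ N)) :=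
    hinj.bijective_of_nat_card_le (by
      rw [Nat.card_perm, ← index_eq_card, hidx, hJ]; norm_num [Nat.factorial])
  exact ⟨(MulEquiv.ofBijective _ hbij).trans (Equiv.permCongrHom
    (Fintype.equivFinOfCardEq (by rw [← Nat.card_eq_fintype_card, ← index_eq_card, hidx])))⟩

end Cfsg.Agent.J4Seven
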