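import Cfsg.Agent.Lib.J4Seven.Four
import Cfsg.Agent.Lib.J4Seven.Group
import Cfsg.Prelude.Def_TwoFusion

/-!
# Janko four type: the centraliser and the normaliser of a subgroup of order seven
-/

set_option autoImplicit false
set_option linter.style.haveILetI false
set_option linter.unusedSectionVars false

namespace Cfsg.Agent.J4Seven

open Subgroup
open Cfsg.Agent.J4Local
open Cfsg.Agent.J4Eleven (Chart)

universe u

theorem perm_five_cent : ∀ p : Equiv.Perm (Fin 5), p * p = 1 → p ≠ 1 →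
    (Finset.univ.filter fun q : Equiv.Perm (Fin 5) => q * p = p * q).card = 8 ∨
      (Finset.univ.filter fun q : Equiv.Perm (Fin 5) => q * p = p * q).card = 12 := by decide +kernel

variable {G : Type u} [Group G] [Finite G] [IsSimpleGroup G] {z : G} {P : Subgroup G}

/-- The centraliser and the normaliser of the standard element of order seven. -/
theorem frame_results (hG : ¬ IsMulCommutative G) (X : Chart z P) {x : G} {W : Subgroup G} (F : Frame z x W) :
    ¬ 49 ∣ Nat.card G ∧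
      (∃ I : Subgroup G, Cfsg.IsInternalDirectProduct (zpowers x) I (centralizer ({x} : Set G)) ∧
        Nonempty (↥I ≃* Equiv.Perm (Fin 5))) ∧
      Nat.card ↥(normalizer (zpowers x : Set G)) = 3 * Nat.card ↥(centralizer ({x} : Set G)) ∧
      Nat.card ↥(normalizer (zpowers x : Set G)) = 2520 := by
  classical
  haveI : Fact (Nat.Prime 7) := ⟨by norm_num⟩
  set C := centralizer ({x} : Set G) with hC
  have hmC : ∀ {g : G}, g ∈ C ↔ g * x = x * g := mem_centralizer_singleton_iff
  have hxC : x ∈ C := hmC.2 rfl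
  set N0 := (zpowers x).subgroupOf C with hN0
  have hN0c : Nat.card ↥N0 = 7 := by
    rw [hN0, Nat.card_congr (subgroupOfEquivOfLe (zpowers_le.2 hxC)).toEquiv, Nat.card_zpowers, F.seven]
  have hcen : ∀ n ∈ N0, ∀ g : ↥C, g * n = n * g := fun n hn g => Subtype.ext
    (comm_of_mem_zpowers (mem_subgroupOf.1 hn) (hmC.1 g.2))
  haveI hnrm : N0.Normal := ⟨fun n hn g => by rw [hcen n hn g, mul_inv_cancel_right]; exact hn⟩
  set π : ↥C →* ↥C ⧸ N0 := QuotientGroup.mk' N0 with hπ
  have hker : ∀ {a : ↥C}, π a = 1 ↔ a ∈ N0 := QuotientGroup.eq_one_iff _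
  have hx7 : ∀ {n : ↥C}, n ∈ N0 → n ^ 7 = 1 := fun {n} hn => by
    have := congrArg Subtype.val (pow_card_eq_one' (x := (⟨n, hn⟩ : ↥N0)))
    rwa [hN0c] at this
  have hinv : ∀ {n : ↥C}, n ∈ N0 → n * n = 1 → n = 1 := fun {n} hn h2 => by
    have h1 := hx7 hn
    rwa [show n ^ 7 = (n * n) * (n * n) * (n * n) * n by simp [pow_succ, mul_assoc], h2, one_mul, one_mul, one_mul] at h1
  -- involutions upstairs and downstairs
  have huniq : ∀ {a b : ↥C}, a * a = 1 → b * b = 1 → π a = π b → a = b := by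
    intro a b ha hb e
    have hs : a⁻¹ * b ∈ N0 := hker.1 (by rw [map_mul, map_inv, e, inv_mul_cancel])
    set s := a⁻¹ * b with hs'
    have hb' : b = a * s := by rw [hs', mul_inv_cancel_left]
    have hs2 : s * s = 1 := by
      calc s * s = (a * a) * (s * s) := by rw [ha, one_mul]
        _ = a * (a * s) * s := by group
        _ = a * (s * a) * s := by rw [hcen s hs a]
        _ = (a * s) * (a * s) := by group
        _ = 1 := by rw [← hb', hb]
    rw [hb', hinv hs hs2, mul_one]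
  have hcomm : ∀ {a g : ↥C}, a * a = 1 → π g * π a = π a * π g → g * a = a * g := by
    intro a g ha e
    have e' : π (g * a * g⁻¹) = π a := by rw [map_mul, map_mul, map_inv, e, mul_inv_cancel_right]
    have := huniq (by rw [conj_mul, ha, mul_one, mul_inv_cancel]) ha e'
    exact mul_inv_eq_iff_eq_mul.1 this
  set Tz : ↥C ⧸ N0 → Prop := fun j => ∃ a : ↥C, π a = j ∧ IsConj z (a : G) with hTz
  have hsqz : ∀ {a : ↥C}, IsConj z (a : G) → a * a = 1 := fun {a} h => by
    obtain ⟨g, hg⟩ := isConj_iff.1 h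
    refine Subtype.ext ?_
    show (a : G) * a = 1
    rw [← hg, conj_mul, X.L.J.ctr.zz, mul_one, mul_inv_cancel]
  have hWC : W ≤ C := fun w hw => hmC.2 (F.le w hw)
  set WC := W.subgroupOf C with hWC'
  set Wb := WC.map π with hWb
  have hWsq : ∀ {a : ↥C}, a ∈ WC → a * a = 1 := fun {a} ha => Subtype.ext (F.sq _ (mem_subgroupOf.1 ha))
  have hWcard : Nat.card ↥Wb = 4 := by
    rw [hWb, ← SetLike.coe_sort_coe, coe_map, Nat.card_image_of_injOn (fun a ha b hb e => huniq (hWsq ha) (hWsq hb) e)]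
    exact (Nat.card_congr (subgroupOfEquivOfLe hWC).toEquiv).trans F.card
  have hcent_card : ∀ a : ↥C, a * a = 1 →
      Nat.card ↥(centralizer ({π a} : Set (↥C ⧸ N0))) * 7 =
        Nat.card ↥(centralizer ({(a : G)} : Set G) ⊓ C) := by
    intro a ha
    have e : (centralizer ({π a} : Set (↥C ⧸ N0))).comap π = centralizer ({a} : Set ↥C) := by
      ext g
      rw [mem_comap, mem_centralizer_singleton_iff, mem_centralizer_singleton_iff]
      exact ⟨fun h => hcomm ha h, fun h => by rw [← map_mul, ← map_mul, h]⟩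
    have h1 := card_eq_card_quotient_mul_card_subgroup (N0.subgroupOf ((centralizer ({π a} : Set (↥C ⧸ N0))).comap π))
    have hle : N0 ≤ (centralizer ({π a} : Set (↥C ⧸ N0))).comap π := fun n hn => by
      rw [mem_comap, hker.2 hn]; exact one_mem _
    have h2 : Nat.card ↥((centralizer ({π a} : Set (↥C ⧸ N0))).comap π) =
        Nat.card ↥(centralizer ({π a} : Set (↥C ⧸ N0))) * 7 := by
      let f : ↥((centralizer ({π a} : Set (↥C ⧸ N0))).comap π) →* ↥(centralizer ({π a} : Set (↥C ⧸ N0))) :=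
        { toFun := fun g => ⟨π g, g.2⟩
          map_one' := Subtype.ext (map_one π)
          map_mul' := fun g h => Subtype.ext (map_mul π _ _) }
      have hf : Function.Surjective f := fun j => by
        obtain ⟨g, hg⟩ := QuotientGroup.mk'_surjective N0 (j : ↥C ⧸ N0)
        exact ⟨⟨g, mem_comap.2 (by rw [show π g = _ from hg]; exact j.2)⟩, Subtype.ext hg⟩
      have hk : f.ker = N0.subgroupOf _ := by
        ext g
        rw [MonoidHom.mem_ker, mem_subgroupOf, ← hker, Subtype.ext_iff]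
        rfl
      have h3 := f.ker.card_mul_index
      rw [index_ker, MonoidHom.range_eq_top.2 hf, Nat.card_congr topEquiv.toEquiv, hk,
        Nat.card_congr (subgroupOfEquivOfLe hle).toEquiv, hN0c] at h3
      omega
    rw [← h2, e]
    refine Nat.card_congr
      { toFun := fun g => ⟨(g : G), mem_inf.2 ⟨mem_centralizer_singleton_iff.2
          (congrArg Subtype.val (mem_centralizer_singleton_iff.1 g.2)), (g : ↥C).2⟩⟩
        invFun := fun g => ⟨⟨(g : G), (mem_inf.1 g.2).2⟩, mem_centralizer_singleton_iff.2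
          (Subtype.ext (mem_centralizer_singleton_iff.1 (mem_inf.1 g.2).1))⟩
        left_inv := fun g => rfl
        right_inv := fun g => rfl }
  obtain ⟨y, hy, hxy⟩ := F.exists_zt
  have hdvd12 : ∀ a : ↥C, IsConj z (a : G) → Nat.card ↥(centralizer ({π a} : Set (↥C ⧸ N0))) ∣ 12 ∧
      3 ∣ Nat.card ↥(centralizer ({π a} : Set (↥C ⧸ N0))) := fun a ha => by
    obtain ⟨h1, h2, -, -⟩ := cent_seven X ha (hmC.1 a.2).symm F.seven
    rw [← hcent_card a (hsqz ha)] at h1 h2
    exact ⟨Nat.dvd_of_mul_dvd_mul_right (by norm_num : 0 < 7) (by simpa using h1),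
      ((Nat.Prime.dvd_mul Nat.prime_three).1 h2).resolve_right (by norm_num)⟩
  have hlocal : Local Wb Tz := by
    refine ⟨hWcard, ?_, ?_, ?_, ?_, ⟨π ⟨y, hmC.2 hxy.symm⟩, _, rfl, hy⟩, ?_, ?_, ?_, ?_, ?_⟩
    · rintro _ ⟨a, ha, rfl⟩
      rw [← map_mul, hWsq ha, map_one]
    · rintro _ ⟨a, ha, rfl⟩ ⟨b, hb, hbz⟩
      exact F.off _ (mem_subgroupOf.1 ha) (huniq (hsqz hbz) (hWsq ha) hb ▸ hbz)
    · rintro _ ⟨b, rfl, hbz⟩
      rw [← map_mul, hsqz hbz, map_one]
    · rintro j _ ⟨b, rfl, hbz⟩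
      obtain ⟨g, rfl⟩ := QuotientGroup.mk'_surjective N0 j
      exact ⟨g * b * g⁻¹, by rw [map_mul, map_mul, map_inv], hbz.trans (isConj_iff.2 ⟨g, rfl⟩)⟩
    · rintro _ ⟨b, rfl, hbz⟩
      exact (hdvd12 b hbz).1
    · rintro _ ⟨b, rfl, hbz⟩
      exact (hdvd12 b hbz).2
    · rintro _ ⟨a, ha, rfl⟩ ha1 j hj
      obtain ⟨c, rfl⟩ := QuotientGroup.mk'_surjective N0 j
      have hca : c * a = a * c := hcomm (hWsq ha) (mem_centralizer_singleton_iff.1 hj)
      have hne : (a : G) ≠ 1 := fun e => ha1 (by rw [show a = 1 from Subtype.ext e, map_one])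
      have hcN := F.cent _ (mem_subgroupOf.1 ha) hne c (congrArg Subtype.val hca) (hmC.1 c.2)
      refine M22Order.mem_normalizer_of_conj ?_
      rintro _ ⟨b, hb, rfl⟩
      refine ⟨c * b * c⁻¹, mem_subgroupOf.2 (M22Order.conj_mem_of_mem_normalizer hcN (mem_subgroupOf.1 hb)), ?_⟩
      rw [map_mul, map_mul, map_inv]
    · -- the centraliser of the four-group is a 2-group
      set D := centralizer (Wb : Set (↥C ⧸ N0))
      set R := centralizer (W : Set G) ⊓ C
      have hle : N0 ≤ D.comap π := fun n hn => by rw [mem_comap, hker.2 hn]; exact one_mem _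
      have e : D.comap π = R.subgroupOf C := by
        ext g
        rw [mem_comap, mem_subgroupOf, mem_inf, mem_centralizer_iff, mem_centralizer_iff]
        constructor
        · intro h
          exact ⟨fun w hw => congrArg Subtype.val (hcomm (hWsq (a := ⟨w, hWC hw⟩) hw)
            (h _ ⟨⟨w, hWC hw⟩, hw, rfl⟩).symm).symm, g.2⟩
        · rintro ⟨h, -⟩ _ ⟨b, hb, rfl⟩
          rw [← map_mul, ← map_mul, show b * g = g * b from Subtype.ext (h _ (mem_subgroupOf.1 hb))]
      have hR : Nat.card ↥D * 7 = Nat.card ↥R := by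
        have h1 := (D.comap π).card_mul_index
        rw [index_comap_of_surjective _ (QuotientGroup.mk'_surjective N0)] at h1
        have h2 := D.card_mul_index
        have h3 : Nat.card ↥C = 7 * Nat.card (↥C ⧸ N0) := by
          rw [card_eq_card_quotient_mul_card_subgroup N0, hN0c, mul_comm]
        rw [h3, ← h2, e, Nat.card_congr (subgroupOfEquivOfLe (inf_le_right : R ≤ C)).toEquiv] at h1
        have := Nat.eq_of_mul_eq_mul_right (Nat.pos_of_ne_zero index_ne_zero_of_finite)
          (h1.trans (mul_assoc 7 _ _).symm)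
        rw [mul_comm]
        exact this.symm
      refine IsPGroup.of_card (n := (Nat.card ↥D).primeFactorsList.length)
        (Nat.eq_prime_pow_of_unique_prime_dvd Nat.card_pos.ne' fun {q} hq hqd => ?_)
      rcases F.two q hq (by rw [← hR]; exact dvd_mul_of_dvd_left hqd 7) with r | r
      · exact r
      · exfalso
        refine F.seven_once ?_
        rw [← hR, show (49 : ℕ) = 7 * 7 from rfl]
        exact Nat.mul_dvd_mul_right (r ▸ hqd) 7
    · obtain ⟨k, hkN, hkx, hkm⟩ := F.move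
      refine ⟨π ⟨k, hmC.2 hkx⟩, M22Order.mem_normalizer_of_conj ?_, ?_⟩
      · rintro _ ⟨b, hb, rfl⟩
        refine ⟨⟨k, hmC.2 hkx⟩ * b * ⟨k, hmC.2 hkx⟩⁻¹,
          mem_subgroupOf.2 (M22Order.conj_mem_of_mem_normalizer hkN (mem_subgroupOf.1 hb)), ?_⟩
        rw [map_mul, map_mul, map_inv]
      · rintro _ ⟨b, hb, rfl⟩ hb1 e
        refine hkm _ (mem_subgroupOf.1 hb) (fun e' => hb1 (by rw [show b = 1 from Subtype.ext e', map_one])) ?_
        rw [← map_inv, ← map_mul, ← map_mul] at e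
        exact congrArg Subtype.val (huniq (by rw [conj_mul, hWsq hb, mul_one, mul_inv_cancel]) (hWsq hb) e)
  obtain ⟨hJ120, ⟨φ⟩, hclass⟩ := hlocal.perm_five
  have hCcard : Nat.card ↥C = 840 := by
    rw [card_eq_card_quotient_mul_card_subgroup N0, hN0c, hJ120]
  have h49 : ¬ 49 ∣ Nat.card G := by
    intro h
    obtain ⟨R, hR, hxR⟩ := Sylow.exists_subgroup_card_pow_succ (p := 7) (n := 1) (by simpa using h)
      (H := zpowers x) (by rw [Nat.card_zpowers, F.seven, pow_one])
    haveI := IsPGroup.isMulCommutative_of_card_eq_prime_sq (p := 7) (G := ↥R) hR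
    have hRC : R ≤ C := fun r hr => hmC.2
      (congrArg Subtype.val (mul_comm' (⟨r, hr⟩ : ↥R) ⟨x, hxR (mem_zpowers x)⟩))
    have h1 := card_dvd_of_le hRC
    rw [hR, hCcard] at h1
    norm_num at h1
  refine ⟨h49, ?_, ?_⟩
  · obtain ⟨Hc, hHc⟩ := exists_left_complement'_of_coprime (N := N0) (by
      rw [hN0c, index_eq_card, hJ120]; norm_num)
    refine ⟨Hc.map C.subtype, ⟨zpowers_le.2 hxC, map_subtype_le _, ?_, ?_, ?_⟩,
      ⟨(Hc.equivMapOfInjective _ C.subtype_injective).symm.trans (hHc.QuotientMulEquiv.symm.trans φ)⟩⟩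
    · rintro a ha _ ⟨b, -, rfl⟩
      exact (comm_of_mem_zpowers ha (hmC.1 b.2)).symm
    · rw [eq_bot_iff]
      rintro a ⟨ha, b, hb, rfl⟩
      have h1 : b ∈ Hc ⊓ N0 := ⟨hb, mem_subgroupOf.2 ha⟩
      rw [hHc.disjoint.eq_bot, mem_bot] at h1
      rw [mem_bot, h1, map_one]
    · refine le_antisymm (sup_le (zpowers_le.2 hxC) (map_subtype_le _)) ?_
      have h1 : Hc ⊔ N0 = ⊤ := hHc.sup_eq_top
      intro g hg
      have h2 : (⟨g, hg⟩ : ↥C) ∈ Hc ⊔ N0 := h1 ▸ mem_top _
      have h3 := mem_map_of_mem C.subtype h2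
      rw [Subgroup.map_sup, hN0, map_subgroupOf_eq_of_le (zpowers_le.2 hxC), sup_comm] at h3
      exact h3
  set N := normalizer (zpowers x : Set G) with hN
  have hCN : C ≤ N := fun g hg => M22Order.mem_normalizer_of_conj fun a ha => by
    rw [comm_of_mem_zpowers ha (hmC.1 hg), mul_inv_cancel_right]; exact ha
  haveI hCn : (C.subgroupOf N).Normal := ⟨fun c hc g => mem_subgroupOf.2 (hmC.2 (by
    have hx' : (g : G)⁻¹ * x * g ∈ zpowers x := by
      simpa using M22Order.conj_mem_of_mem_normalizer (inv_mem g.2) (mem_zpowers x)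
    have h1 := comm_of_mem_zpowers hx' (hmC.1 (mem_subgroupOf.1 hc))
    push_cast
    calc (g : G) * c * (g : G)⁻¹ * x = (g : G) * ((c : G) * ((g : G)⁻¹ * x * g)) * (g : G)⁻¹ := by group
      _ = _ := by rw [h1]; group))⟩
  set y' : ↥C := ⟨y, hmC.2 hxy.symm⟩
  obtain ⟨-, -, hN252, n, hn, hnx⟩ := cent_seven X hy hxy F.seven
  set Ny := centralizer ({y} : Set G) ⊓ N with hNy
  set Cy := centralizer ({y} : Set G) ⊓ C with hCy
  have hCy84 : Nat.card ↥Cy = 84 := by
    rw [hCy, ← hcent_card y' (hsqz hy)]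
    obtain ⟨h12, h3⟩ := hdvd12 y' hy
    have hj : π y' * π y' = 1 := by rw [← map_mul, hsqz hy, map_one]
    have hj1 : π y' ≠ 1 := fun e => by
      have h1 := hinv (hker.1 e) (hsqz hy)
      obtain ⟨g, hg⟩ := isConj_iff.1 hy
      have hy1 : y = 1 := congrArg Subtype.val h1
      rw [hy1, conj_eq_one_iff] at hg
      exact X.L.J.ctr.ne_one hg
    set p := φ (π y')
    have hp : p * p = 1 := by rw [← map_mul, hj, map_one]
    have hp1 : p ≠ 1 := fun e => hj1 (φ.injective (e.trans (map_one φ).symm))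
    have hcard : Nat.card ↥(centralizer ({π y'} : Set (↥C ⧸ N0))) =
        (Finset.univ.filter fun q : Equiv.Perm (Fin 5) => q * p = p * q).card := by
      rw [← Fintype.card_subtype, ← Nat.card_eq_fintype_card]
      exact Nat.card_congr
        { toFun := fun q => ⟨φ q, by
            show φ q * φ (π y') = φ (π y') * φ q
            rw [← map_mul, ← map_mul, mem_centralizer_singleton_iff.1 q.2]⟩
          invFun := fun q => ⟨φ.symm q, mem_centralizer_singleton_iff.2 (φ.injective (by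
            rw [map_mul, map_mul, φ.apply_symm_apply]; exact q.2))⟩
          left_inv := fun q => Subtype.ext (φ.symm_apply_apply _)
          right_inv := fun q => Subtype.ext (φ.apply_symm_apply _) }
    rw [hcard] at h3 ⊢
    rcases perm_five_cent p hp hp1 with e | e <;> rw [e] at h3 ⊢
    norm_num at h3
  have hCyNy : Cy ≤ Ny := inf_le_inf_left _ hCN
  have hNy : Nat.card ↥Ny = 252 := by
    have h84 := card_dvd_of_le hCyNy
    rw [hCy84] at h84
    obtain ⟨q, hq⟩ := h84
    have hq3 : q ∣ 3 := by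
      have h1 : 84 * q ∣ 84 * 3 := hq ▸ hN252
      exact Nat.dvd_of_mul_dvd_mul_left (by norm_num) h1
    rcases (Nat.dvd_prime Nat.prime_three).1 hq3 with e | e <;> rw [hq, e]
    exfalso
    rw [e, mul_one] at hq
    have he := eq_of_le_of_card_ge hCyNy (by rw [hq, hCy84])
    exact hnx (hmC.1 (mem_inf.1 (he.symm ▸ hn : n ∈ Cy)).2)
  have hf : Nat.card (↥N ⧸ C.subgroupOf N) = 3 := by
    let f : ↥Ny →* ↥N ⧸ C.subgroupOf N := (QuotientGroup.mk' _).comp (inclusion inf_le_right)
    have hsurj : Function.Surjective f := by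
      intro q
      obtain ⟨g, rfl⟩ := QuotientGroup.mk'_surjective _ q
      have hgy : (g : G) * y * (g : G)⁻¹ ∈ C := by
        have hx' : (g : G)⁻¹ * x * g ∈ zpowers x := by
          simpa using M22Order.conj_mem_of_mem_normalizer (inv_mem g.2) (mem_zpowers x)
        have h1 := comm_of_mem_zpowers hx' (show y * x = x * y from hxy.symm)
        refine hmC.2 ?_
        calc (g : G) * y * (g : G)⁻¹ * x = (g : G) * (y * ((g : G)⁻¹ * x * g)) * (g : G)⁻¹ := by group
          _ = _ := by rw [h1]; group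
      have hz' : IsConj z ((g : G) * y * (g : G)⁻¹) := hy.trans (isConj_iff.2 ⟨g, rfl⟩)
      obtain ⟨j, hj⟩ := isConj_iff.1 (hclass (π y') (π ⟨_, hgy⟩) ⟨y', rfl, hy⟩ ⟨⟨_, hgy⟩, rfl, hz'⟩)
      obtain ⟨k, rfl⟩ := QuotientGroup.mk'_surjective N0 j
      have hk : k * y' * k⁻¹ = ⟨_, hgy⟩ := huniq
        (by rw [conj_mul, hsqz hy, mul_one, mul_inv_cancel]) (hsqz hz') (by rw [map_mul, map_mul, map_inv]; exact hj)
      have hk' : (k : G) * y * (k : G)⁻¹ = (g : G) * y * (g : G)⁻¹ := congrArg Subtype.val hk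
      refine ⟨⟨(k : G)⁻¹ * g, mem_inf.2 ⟨mem_centralizer_singleton_iff.2 ?_, mul_mem (inv_mem (hCN k.2)) g.2⟩⟩, ?_⟩
      · calc (k : G)⁻¹ * g * y = (k : G)⁻¹ * ((g : G) * y * (g : G)⁻¹) * g := by group
          _ = _ := by rw [← hk']; group
      · refine QuotientGroup.eq.2 (mem_subgroupOf.2 ?_)
        show ((k : G)⁻¹ * g)⁻¹ * g ∈ C
        rw [mul_inv_rev, inv_inv]
        have h1 := hCn.conj_mem ⟨(k : G), hCN k.2⟩ (mem_subgroupOf.2 k.2) g⁻¹
        simpa using mem_subgroupOf.1 h1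
    have hk : f.ker = Cy.subgroupOf Ny := by
      ext a
      show QuotientGroup.mk' _ (inclusion inf_le_right a) = 1 ↔ _
      rw [QuotientGroup.mk'_apply, QuotientGroup.eq_one_iff, mem_subgroupOf, mem_subgroupOf]
      exact ⟨fun h => ⟨(mem_inf.1 a.2).1, h⟩, fun h => h.2⟩
    have h := f.ker.card_mul_index
    rw [index_ker, MonoidHom.range_eq_top.2 hsurj, Nat.card_congr topEquiv.toEquiv, hk,
      Nat.card_congr (subgroupOfEquivOfLe hCyNy).toEquiv, hCy84, hNy] at h
    omega
  have hNc : Nat.card ↥N = 3 * Nat.card ↥C := by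
    rw [card_eq_card_quotient_mul_card_subgroup (C.subgroupOf N), hf,
      Nat.card_congr (subgroupOfEquivOfLe hCN).toEquiv]
  exact ⟨hNc, by rw [hNc, hCcard]⟩

/-- The statement for any subgroup of order seven. -/
theorem order_seven (hG : ¬ IsMulCommutative G) (hJ : Cfsg.IsOfJankoFourTypeAt z) (S : Subgroup G)
    (hS : Nat.card ↥S = 7) :
    ¬ (49 ∣ Nat.card G) ∧
    (∃ I : Subgroup G, Cfsg.IsInternalDirectProduct S I (centralizer (S : Set G)) ∧
      Nonempty (↥I ≃* Equiv.Perm (Fin 5))) ∧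
    Nat.card ↥(normalizer (S : Set G)) = 3 * Nat.card ↥(centralizer (S : Set G)) ∧
    Nat.card ↥(normalizer (S : Set G)) = 2 ^ 3 * 3 ^ 2 * 5 * 7 := by
  obtain ⟨P, hP⟩ := hJ
  obtain ⟨X⟩ := Cfsg.Agent.J4Eleven.exists_chart hP
  obtain ⟨x, W, F⟩ := exists_frame_seven hG X
  obtain ⟨h49, ⟨I, ⟨h1, h2, h3, h4, h5⟩, ⟨φ⟩⟩, hN, hN'⟩ := frame_results hG X F
  haveI : Fact (Nat.Prime 7) := ⟨by norm_num⟩
  obtain ⟨⟨s, hs⟩, hs7⟩ := exists_prime_orderOf_dvd_card' (G := ↥S) 7 (by rw [hS])
  rw [Subgroup.orderOf_mk] at hs7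
  obtain ⟨c, -, hc⟩ := conj_in (K := (⊤ : Subgroup G))
    (by rw [Nat.card_congr topEquiv.toEquiv]; exact h49) (mem_top x) (mem_top s) F.seven hs7
  have hSz : S = zpowers s := by
    refine (eq_of_le_of_card_ge (zpowers_le.2 hs) ?_).symm
    rw [Nat.card_zpowers, hs7, hS]
  set σ := MulAut.conj c
  have hmap : S = (zpowers x).map σ.toMonoidHom := by
    rw [MonoidHom.map_zpowers, hSz, ← hc]; rfl
  have hcent : centralizer (S : Set G) = (centralizer ({x} : Set G)).map σ.toMonoidHom := by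
    ext g
    rw [mem_map_equiv, MulAut.conj_symm_apply, mem_centralizer_singleton_iff, mem_centralizer_iff, hmap]
    constructor
    · intro h
      have := h (c * x * c⁻¹) ⟨x, mem_zpowers x, rfl⟩
      calc c⁻¹ * g * c * x = c⁻¹ * (g * (c * x * c⁻¹)) * c := by group
        _ = _ := by rw [← this]; group
    · rintro h _ ⟨a, ha, rfl⟩
      have h6 := comm_of_mem_zpowers ha h
      show c * a * c⁻¹ * g = g * (c * a * c⁻¹)
      calc c * a * c⁻¹ * g = c * (a * (c⁻¹ * g * c)) * c⁻¹ := by group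
        _ = _ := by rw [← h6]; group
  have hnorm : normalizer (S : Set G) = (normalizer (zpowers x : Set G)).map σ.toMonoidHom := by
    rw [hmap]
    exact (cjS_normalizer c (zpowers x)).symm
  rw [hcent, hnorm, card_map_of_injective σ.injective, card_map_of_injective σ.injective]
  refine ⟨h49, ⟨I.map σ.toMonoidHom, ⟨?_, map_mono h2, ?_, ?_, ?_⟩,
    ⟨(I.equivMapOfInjective _ σ.injective).symm.trans φ⟩⟩, hN, by rw [hN']; norm_num⟩
  · rw [hmap]; exact map_mono h1
  · rw [hmap]
    rintro _ ⟨a, ha, rfl⟩ _ ⟨b, hb, rfl⟩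
    rw [← map_mul, ← map_mul, h3 a ha b hb]
  · rw [hmap, ← map_inf _ _ _ σ.injective, h4, Subgroup.map_bot]
  · rw [hmap, ← Subgroup.map_sup, h5]

end Cfsg.Agent.J4Seven
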