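import Cfsg.Agent.Lib.J4Seven.Fixed
import Cfsg.Agent.Lib.J4V.Cent
import Cfsg.Agent.Lib.J4V.Local
import Cfsg.Agent.Lib.J4Local.ThreeClass
import Cfsg.Agent.Lib.J4Local.Fusion
import Cfsg.Agent.Lib.J4Local.Final

/-!
# Janko four type: the four-group fixed by an element of order seven in a subgroup of order `2 ^ 11`
-/

set_option autoImplicit false
set_option linter.style.haveILetI false
set_option linter.unusedSectionVars false

namespace Cfsg.Agent.J4Seven

open Subgroup
open Cfsg.Agent.J4Local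
open Cfsg.Agent.J4Eleven (Chart)

universe u

variable {G : Type u} [Group G] [Finite G] {z : G} {P : Subgroup G}

theorem fac_seven {n : ℕ} (hn : n ≠ 0) (h7 : 7 ∣ n) (h49 : ¬ 49 ∣ n) : n.factorization 7 = 1 := by
  have h1 := (Nat.Prime.pow_dvd_iff_le_factorization (p := 7) (k := 1) (by norm_num) hn).1 (by simpa using h7)
  have h2 := (Nat.Prime.pow_dvd_iff_le_factorization (p := 7) (k := 2) (by norm_num) hn).not.1 (by simpa using h49)
  omega

/-- Two elements of order seven of a subgroup whose order is not divisible by 49. -/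
theorem conj_in {K : Subgroup G} (hK : ¬ 49 ∣ Nat.card ↥K) {a b : G} (ha : a ∈ K) (hb : b ∈ K)
    (ha7 : orderOf a = 7) (hb7 : orderOf b = 7) : ∃ c ∈ K, zpowers (c * a * c⁻¹) = zpowers b := by
  haveI : Fact (Nat.Prime 7) := ⟨by norm_num⟩
  have h7 : 7 ∣ Nat.card ↥K := ha7 ▸ K.orderOf_dvd_natCard ha
  have hf := fac_seven Nat.card_pos.ne' h7 hK
  let S1 : Sylow 7 ↥K := Sylow.ofCard (zpowers ⟨a, ha⟩) (by
    rw [Nat.card_zpowers, Subgroup.orderOf_mk, ha7, hf, pow_one])
  let S2 : Sylow 7 ↥K := Sylow.ofCard (zpowers ⟨b, hb⟩) (by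
    rw [Nat.card_zpowers, Subgroup.orderOf_mk, hb7, hf, pow_one])
  obtain ⟨c, hc⟩ := MulAction.exists_smul_eq ↥K S1 S2
  refine ⟨(c : G), c.2, ?_⟩
  have h := congrArg (fun S : Sylow 7 ↥K => (S : Subgroup ↥K).map K.subtype) hc
  simp only [Sylow.coe_subgroup_smul, S1, S2, Sylow.coe_ofCard] at h
  rw [MonoidHom.map_zpowers] at h
  rw [show (K.subtype ⟨b, hb⟩) = b from rfl] at h
  rw [← h]
  ext v
  constructor
  · intro hv
    obtain ⟨i, rfl⟩ := mem_zpowers_iff.1 hv
    exact ⟨c * ⟨a, ha⟩ ^ i * c⁻¹, ⟨_, mem_zpowers_iff.2 ⟨i, rfl⟩, rfl⟩, by rw [conj_zpow]; simp⟩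
  · rintro ⟨_, ⟨w, hw, rfl⟩, rfl⟩
    obtain ⟨i, rfl⟩ := mem_zpowers_iff.1 hw
    exact mem_zpowers_iff.2 ⟨i, by rw [conj_zpow]; rfl⟩

theorem comm_of_mem_zpowers {a b c : G} (h : a ∈ zpowers b) (hc : c * b = b * c) : c * a = a * c := by
  obtain ⟨i, rfl⟩ := mem_zpowers_iff.1 h
  exact ((show Commute c b from hc).zpow_right i).eq

/-- The centraliser and normaliser of an element of order seven in the centraliser of a conjugate of `z`. -/
theorem cent_seven (X : Chart z P) {y x : G} (hy : IsConj z y) (hxy : x * y = y * x) (h7 : orderOf x = 7) :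
    Nat.card ↥(centralizer ({y} : Set G) ⊓ centralizer ({x} : Set G)) ∣ 84 ∧
      3 ∣ Nat.card ↥(centralizer ({y} : Set G) ⊓ centralizer ({x} : Set G)) ∧
      Nat.card ↥(centralizer ({y} : Set G) ⊓ normalizer (zpowers x : Set G)) ∣ 252 ∧
      ∃ n ∈ centralizer ({y} : Set G) ⊓ normalizer (zpowers x : Set G), n * x ≠ x * n := by
  have hJ := X.L.J
  obtain ⟨g₁, rfl⟩ := isConj_iff.1 hy
  obtain ⟨x₀, hx₀, hx₀7, n₀, hn₀, hn₀x, hn₀c⟩ := exists_seven X
  have hxH : g₁⁻¹ * x * g₁ ∈ HH z := (mem_HH_conj z g₁ x).1 (mem_HH.2 hxy)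
  have hord : orderOf (g₁⁻¹ * x * g₁) = 7 := by
    rw [← h7, ← orderOf_injective (MulAut.conj g₁⁻¹).toMonoidHom (MulAut.conj g₁⁻¹).injective x]
    simp
  have h49 : ¬ 49 ∣ Nat.card ↥(HH z) := by rw [X.L.cardH]; norm_num
  obtain ⟨c, hc, hcz⟩ := conj_in h49 hx₀.1 hxH hx₀7 hord
  set g := g₁ * c with hg
  have hgy : g₁ * z * g₁⁻¹ = g * z * g⁻¹ := by
    rw [hg, show g₁ * c * z * (g₁ * c)⁻¹ = g₁ * (c * z * c⁻¹) * g₁⁻¹ by group, mem_HH.1 hc, mul_inv_cancel_right]
  have e1 : g * x₀ * g⁻¹ ∈ zpowers x := by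
    have h1 : c * x₀ * c⁻¹ ∈ zpowers (g₁⁻¹ * x * g₁) := hcz ▸ mem_zpowers _
    obtain ⟨i, hi⟩ := mem_zpowers_iff.1 h1
    refine mem_zpowers_iff.2 ⟨i, ?_⟩
    calc x ^ i = (g₁ * (g₁⁻¹ * x * g₁) * g₁⁻¹) ^ i := by congr 1; group
      _ = g₁ * (c * x₀ * c⁻¹) * g₁⁻¹ := by rw [conj_zpow, hi]
      _ = _ := by rw [hg]; group
  have e2 : x ∈ zpowers (g * x₀ * g⁻¹) := by
    have h1 : g₁⁻¹ * x * g₁ ∈ zpowers (c * x₀ * c⁻¹) := hcz.symm ▸ mem_zpowers _
    obtain ⟨i, hi⟩ := mem_zpowers_iff.1 h1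
    refine mem_zpowers_iff.2 ⟨i, ?_⟩
    calc (g * x₀ * g⁻¹) ^ i = (g₁ * (c * x₀ * c⁻¹) * g₁⁻¹) ^ i := by congr 1; rw [hg]; group
      _ = x := by rw [conj_zpow, hi]; group
  have hz : zpowers x = zpowers (g * x₀ * g⁻¹) := le_antisymm (zpowers_le.2 e2) (zpowers_le.2 e1)
  have hC : centralizer ({g₁ * z * g₁⁻¹} : Set G) ⊓ centralizer ({x} : Set G) =
      (HH z ⊓ centralizer ({x₀} : Set G)).map (MulAut.conj g).toMonoidHom := by
    rw [hgy]
    ext w
    rw [mem_inf, mem_map_equiv, MulAut.conj_symm_apply, mem_inf]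
    refine and_congr (mem_HH_conj z g w) ?_
    rw [mem_centralizer_singleton_iff, mem_centralizer_singleton_iff]
    constructor
    · intro h
      have h2 := comm_of_mem_zpowers e1 h
      calc g⁻¹ * w * g * x₀ = g⁻¹ * (w * (g * x₀ * g⁻¹)) * g := by group
        _ = _ := by rw [h2]; group
    · intro h
      refine comm_of_mem_zpowers e2 ?_
      calc w * (g * x₀ * g⁻¹) = g * (g⁻¹ * w * g * x₀) * g⁻¹ := by group
        _ = _ := by rw [h]; group
  have hN : centralizer ({g₁ * z * g₁⁻¹} : Set G) ⊓ normalizer (zpowers x : Set G) =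
      (HH z ⊓ normalizer (zpowers x₀ : Set G)).map (MulAut.conj g).toMonoidHom := by
    rw [hgy, hz]
    ext w
    rw [mem_inf, mem_map_equiv, MulAut.conj_symm_apply, mem_inf]
    refine and_congr (mem_HH_conj z g w) ?_
    rw [show zpowers (g * x₀ * g⁻¹) = cjS g (zpowers x₀) by rw [cjS, MonoidHom.map_zpowers]; simp,
      ← cjS_normalizer, mem_cjS]
  obtain ⟨hA, hB⟩ := cent_norm_seven hJ hx₀ hx₀7
  refine ⟨by rw [hC, card_map_of_injective (MulAut.conj g).injective]; exact hA, ?_,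
    by rw [hN, card_map_of_injective (MulAut.conj g).injective]; exact hB, ?_⟩
  · rw [hC, card_map_of_injective (MulAut.conj g).injective, ← hJ.cardP]
    exact card_dvd_of_le fun p hp => ⟨hJ.P_le_HH hp, mem_centralizer_singleton_iff.2 (commute_CC_P hx₀ hp).symm⟩
  · refine ⟨g * n₀ * g⁻¹, ?_, fun e => hn₀c ?_⟩
    · rw [hN]
      refine ⟨n₀, ⟨hn₀.1, M22Order.mem_normalizer_of_conj fun a ha => ?_⟩, rfl⟩
      obtain ⟨i, rfl⟩ := mem_zpowers_iff.1 ha
      rw [← conj_zpow]
      exact zpow_mem hn₀x i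
    · have h := comm_of_mem_zpowers e1 e
      calc n₀ * x₀ = g⁻¹ * ((g * n₀ * g⁻¹) * (g * x₀ * g⁻¹)) * g := by group
        _ = _ := by rw [h]; group

/-- The properties of the four-group. -/
structure Frame (z x : G) (W : Subgroup G) : Prop where
  seven : orderOf x = 7
  le : ∀ w ∈ W, w * x = x * w
  card : Nat.card ↥W = 4
  sq : ∀ w ∈ W, w * w = 1
  off : ∀ w ∈ W, ¬ IsConj z w
  cent : ∀ w ∈ W, w ≠ 1 → ∀ c, c * w = w * c → c * x = x * c → c ∈ normalizer (W : Set G)
  two : ∀ q : ℕ, q.Prime → q ∣ Nat.card ↥(centralizer (W : Set G) ⊓ centralizer ({x} : Set G)) → q = 2 ∨ q = 7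
  seven_once : ¬ 49 ∣ Nat.card ↥(centralizer (W : Set G) ⊓ centralizer ({x} : Set G))
  move : ∃ k ∈ normalizer (W : Set G), k * x = x * k ∧ ∀ w ∈ W, w ≠ 1 → k * w * k⁻¹ ≠ w
  exists_zt : ∃ y, IsConj z y ∧ x * y = y * x

variable [IsSimpleGroup G] (hG : ¬ IsMulCommutative G)

include hG

theorem exists_config (X : Chart z P) : ∃ t w e : G, t ∈ X.DD ∧ w ∈ X.DD ∧ t * w ∈ X.DD ∧
    e ∈ normalizer (X.std : Set G) ∧ e * t = t * e ∧ e * w * e⁻¹ = t * w := by
  classical
  have hJ := X.L.J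
  obtain ⟨c, hcD, hcW⟩ : ∃ c ∈ X.DD, c ∉ preV X.L.J X.WV := by
    by_contra hcon
    push Not at hcon
    have h1 : X.DD.ncard ≤ (preV X.L.J X.WV : Set G).ncard := Set.ncard_le_ncard hcon (Set.toFinite _)
    have h2 : (preV X.L.J X.WV : Set G).ncard = Nat.card ↥(preV X.L.J X.WV) :=
      (Nat.card_coe_set_eq _).symm
    rw [h2, card_preV, X.card_WV.1] at h1
    rw [show X.DD.ncard = 276 from X.others_ncard hG] at h1
    norm_num at h1
  obtain ⟨y, hy, c', hc', rfl⟩ := hcD.1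
  set m := X.π ⟨c', X.LE_le_CC hc'⟩ with hm
  have hm1 : m ≠ 1 := fun e => hcW (mul_mem hy (by
    have h1 := X.mem_zpowers_of_six ((X.mem_ker_iff _).1 e) (by rw [hc'.2.2]; exact one_mem _)
    rcases hJ.mem_zpowers h1 with e' | e' <;> rw [show c' = _ from e']
    exacts [one_mem _, X.z_mem_preW]))
  obtain ⟨w₁, hw₁R, hw₁5⟩ : {w | w ∈ X.RR m ∧ w ∈ X.five}.Nonempty :=
    Set.nonempty_of_ncard_ne_zero (by rw [X.five_on_line hc'.2.1 hm1]; norm_num)
  rw [X.RR_lift hc'.2.1 (X.LE_le_CC hc') hc'.2.2 rfl] at hw₁R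
  obtain ⟨v, hv⟩ := hw₁R
  obtain ⟨e, he, rfl⟩ := vk_surj v
  have hcH := (X.LE_le_CC hc').1
  set cc := y * c' with hcc
  set t := cc * e * cc⁻¹ * e⁻¹ with ht
  have heN := (mem_inf.1 (X.EE_mem_NH he)).1
  have hccS : cc ∈ X.std := hcD.1
  have hc2 : cc * cc = 1 := X.std_eleven.sq _ hccS
  have hconj : e * cc * e⁻¹ ∈ X.std := X.EE_conj_std he hccS
  have htS : t ∈ X.std := by
    rw [ht, show cc * e * cc⁻¹ * e⁻¹ = cc * (e * cc * e⁻¹)⁻¹ by group]
    exact mul_mem hccS (inv_mem hconj)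
  have hccH : cc ∈ HH z := X.std_eleven.le hccS
  have htE : t ∈ EE z := mul_mem (conj_mem_EE hccH he) (inv_mem he)
  have htW := X.std_inf_EE htS htE
  have htv : vk z t ∈ X.five := by
    have h1 : vk z (cc * e * cc⁻¹ * e⁻¹) = vk z (c' * e * c'⁻¹) + vk z e := by
      rw [show cc * e * cc⁻¹ * e⁻¹ = y * (c' * e * c'⁻¹) * y⁻¹ * e⁻¹ by rw [hcc]; group,
        vk_mul (mul_mem (mul_mem hy.1 (conj_mem_EE hcH he)) (inv_mem hy.1)) (inv_mem he),
        vk_mul (mul_mem hy.1 (conj_mem_EE hcH he)) (inv_mem hy.1), vk_mul hy.1 (conj_mem_EE hcH he),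
        vk_inv hJ hy.1, vk_inv hJ he, add_comm (vk z y), add_assoc (vk z (c' * e * c'⁻¹)), VV.two hJ, add_zero]
    rw [ht, h1, ← act_vk hcH he, ← nil_apply, hv]
    exact hw₁5
  have ht0 : t ≠ 1 := fun h => by
    rw [h, vk_one] at htv
    exact htv.2.1 rfl
  have htD : t ∈ X.DD := ⟨htS, ht0, X.not_zt_five hG htW htv⟩
  have hcomm : cc * (e * cc * e⁻¹) = e * cc * e⁻¹ * cc := X.std_eleven.comm _ hccS _ hconj
  have hcinv : cc⁻¹ = cc := inv_eq_of_mul_eq_one_right hc2
  have hte : t = cc * (e * cc * e⁻¹) := by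
    rw [ht, show cc * e * cc⁻¹ * e⁻¹ = cc * (e * cc⁻¹ * e⁻¹) by group, hcinv]
  have hee : e * e ∈ zpowers z := by
    rcases hJ.ctr.sq_cases he with h | h <;> rw [h]
    exacts [one_mem _, mem_zpowers z]
  have hsq : e * (e * cc * e⁻¹) * e⁻¹ = cc := by
    rw [show e * (e * cc * e⁻¹) * e⁻¹ = (e * e) * cc * (e * e)⁻¹ by group]
    rcases hJ.mem_zpowers hee with h | h <;> rw [h]
    · group
    · rw [← mem_HH.1 hccH, mul_inv_cancel_right]
  have het : e * t = t * e := by
    rw [← mul_inv_eq_iff_eq_mul]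
    calc e * t * e⁻¹ = (e * cc * e⁻¹) * (e * (e * cc * e⁻¹) * e⁻¹) := by rw [hte]; group
      _ = t := by rw [hsq, ← hcomm, ← hte]
  have hecc : e * cc * e⁻¹ = t * cc := by
    conv_rhs => rw [hte, hcomm, mul_assoc, hc2, mul_one]
  exact ⟨t, cc, e, htD, hcD, by rw [← hecc]; exact (X.mem_DD_conj heN).2 hcD, heN, het, hecc⟩

/-- The order of the centraliser of an involution of the second class. -/
theorem card_cent_t (X : Chart z P) {t : G} (ht : t ∈ X.DD) :
    Nat.card ↥(centralizer ({t} : Set G)) = 2 ^ 11 * 887040 := by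
  classical
  set N := normalizer (X.std : Set G) with hN
  have hle : centralizer ({t} : Set G) ≤ N := X.centralizer_le_of_not_zt hG ht.1 ht.2.1 ht.2.2
  have horb : {v | ∃ n ∈ N, n * t * n⁻¹ = v}.ncard * Nat.card ↥(centralizer ({t} : Set G)) = Nat.card ↥N := by
    letI : MulAction ↥N G :=
      { smul := fun n v => (n : G) * v * (n : G)⁻¹
        one_smul := fun v => by show ((1 : ↥N) : G) * v * ((1 : ↥N) : G)⁻¹ = v; simp
        mul_smul := fun a b v => by
          show ((a * b : ↥N) : G) * v * ((a * b : ↥N) : G)⁻¹ = (a : G) * ((b : G) * v * (b : G)⁻¹) * (a : G)⁻¹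
          simp [mul_assoc] }
    have h := Nat.card_congr (MulAction.orbitProdStabilizerEquivGroup ↥N t)
    rw [Nat.card_prod] at h
    have e1 : MulAction.orbit ↥N t = {v | ∃ n ∈ N, n * t * n⁻¹ = v} := by
      ext v
      exact ⟨fun ⟨n, hn⟩ => ⟨n, n.2, hn⟩, fun ⟨n, hn, e⟩ => ⟨⟨n, hn⟩, e⟩⟩
    have e2 : Nat.card (MulAction.stabilizer ↥N t) = Nat.card ↥(centralizer ({t} : Set G)) :=
      Nat.card_congr
        { toFun := fun n => ⟨(n.1 : G), mem_centralizer_singleton_iff.2 (mul_inv_eq_iff_eq_mul.1 n.2)⟩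
          invFun := fun c => ⟨⟨c.1, hle c.2⟩, mul_inv_eq_iff_eq_mul.2 (mem_centralizer_singleton_iff.1 c.2)⟩
          left_inv := fun n => rfl
          right_inv := fun c => rfl }
    rw [← h, e2, e1, Nat.card_coe_set_eq]
  have e : {v | ∃ n ∈ N, n * t * n⁻¹ = v} = {v | v ∈ X.std ∧ v ≠ 1 ∧ ¬ IsConj z v} := by
    ext v
    constructor
    · rintro ⟨n, hn, rfl⟩
      exact (X.mem_DD_conj hn).2 ht
    · rintro ⟨h1, h2, h3⟩
      exact X.others_conj hG ht.1 ht.2.1 ht.2.2 h1 h2 h3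
  rw [e, X.others_ncard hG, (X.params hG).1] at horb
  omega

/-- An element of odd prime order `q` centralising two elements of the subgroup. -/
theorem fixed_big (X : Chart z P) {r : G} {q : ℕ} [Fact q.Prime] (hr : orderOf r = q) (hq : q ≠ 2)
    (hn : r ∈ normalizer (X.std : Set G)) (h11 : Nat.card ↥(X.std ⊓ centralizer ({r} : Set G)) = 2 ^ 11) :
    False := by
  have he : X.std ⊓ centralizer ({r} : Set G) = X.std :=
    eq_of_le_of_card_ge inf_le_left (by rw [h11, X.std_eleven.card])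
  have hrC : r ∈ X.std := X.centralizer_std (mem_centralizer_iff.2 fun v hv =>
    mem_centralizer_singleton_iff.1 (mem_inf.1 (he.symm ▸ hv : v ∈ X.std ⊓ centralizer ({r} : Set G))).2)
  have h2 : orderOf r ∣ 2 := orderOf_dvd_of_pow_eq_one (by rw [pow_two, X.std_eleven.sq r hrC])
  rw [hr] at h2
  exact hq ((Nat.prime_dvd_prime_iff_eq Fact.out Nat.prime_two).1 h2)

/-- An element of order seven with a pair of commuting involutions of the second class. -/
theorem exists_seven_pair (X : Chart z P) {t w e : G} (ht : t ∈ X.DD) (hw : w ∈ X.DD) (htw : t * w ∈ X.DD) :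
    ¬ 49 ∣ Nat.card ↥(centralizer ({t} : Set G) ⊓ centralizer ({w} : Set G)) ∧
      7 ∣ Nat.card ↥(centralizer ({t} : Set G) ⊓ centralizer ({w} : Set G)) := by
  classical
  haveI : Fact (Nat.Prime 11) := ⟨by norm_num⟩
  set C := centralizer ({t} : Set G) with hC
  have hcard := card_cent_t hG X ht
  have hCN : C ≤ normalizer (X.std : Set G) := X.centralizer_le_of_not_zt hG ht.1 ht.2.1 ht.2.2
  set O := {v | ∃ c ∈ C, c * w * c⁻¹ = v} with hO
  have horb : O.ncard * Nat.card ↥(C ⊓ centralizer ({w} : Set G)) = Nat.card ↥C := by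
    letI : MulAction ↥C G :=
      { smul := fun n v => (n : G) * v * (n : G)⁻¹
        one_smul := fun v => by show ((1 : ↥C) : G) * v * ((1 : ↥C) : G)⁻¹ = v; simp
        mul_smul := fun a b v => by
          show ((a * b : ↥C) : G) * v * ((a * b : ↥C) : G)⁻¹ = (a : G) * ((b : G) * v * (b : G)⁻¹) * (a : G)⁻¹
          simp [mul_assoc] }
    have h := Nat.card_congr (MulAction.orbitProdStabilizerEquivGroup ↥C w)
    rw [Nat.card_prod] at h
    have e1 : MulAction.orbit ↥C w = O := by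
      ext v
      exact ⟨fun ⟨n, hn⟩ => ⟨n, n.2, hn⟩, fun ⟨n, hn, e⟩ => ⟨⟨n, hn⟩, e⟩⟩
    have e2 : Nat.card (MulAction.stabilizer ↥C w) = Nat.card ↥(C ⊓ centralizer ({w} : Set G)) :=
      Nat.card_congr
        { toFun := fun n => ⟨(n.1 : G), mem_inf.2 ⟨n.1.2, mem_centralizer_singleton_iff.2 (mul_inv_eq_iff_eq_mul.1 n.2)⟩⟩
          invFun := fun c => ⟨⟨c.1, (mem_inf.1 c.2).1⟩, mul_inv_eq_iff_eq_mul.2 (mem_centralizer_singleton_iff.1 (mem_inf.1 c.2).2)⟩
          left_inv := fun n => rfl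
          right_inv := fun c => rfl }
    rw [← h, e2, e1, Nat.card_coe_set_eq]
  have h44 : O.ncard ≤ 44 := by
    set A := {v | v ∈ X.DD ∧ t * v ∈ X.DD}
    set B := (fun v => t * v) '' X.Zt t
    have hAB : Disjoint A B := by
      rw [Set.disjoint_left]
      rintro v ⟨-, hv⟩ ⟨y, hy, rfl⟩
      rw [← mul_assoc, X.std_eleven.sq t ht.1, one_mul] at hv
      exact hv.2.2 hy.2.1
    have hBD : B ⊆ X.DD := by
      rintro _ ⟨y, hy, rfl⟩
      show t * y ∈ X.DD
      obtain ⟨n, hn, hny, hW, h5⟩ := X.to_frame hG hy ht.1 ht.2.1 ht.2.2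
      set t0 := n⁻¹ * t * n with ht0
      have e1 : t * y = n * (t0 * z) * n⁻¹ := by rw [← hny, ht0]; group
      rw [e1, X.mem_DD_conj hn]
      refine ⟨mul_mem (X.preV_le_std hW) X.z_mem_std, fun e => ?_, X.not_zt_five hG (X.mul_z_mem_preW hW)
        (by rw [X.vk_mul_z hW.1]; exact h5)⟩
      have e0 := congrArg (vk z) e
      rw [X.vk_mul_z hW.1, vk_one] at e0
      exact h5.2.1 e0
    have hsum : A.ncard + B.ncard ≤ X.DD.ncard := by
      rw [← Set.ncard_union_eq hAB (Set.toFinite _) (Set.toFinite _)]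
      exact Set.ncard_le_ncard (Set.union_subset (fun v hv => hv.1) hBD) (Set.toFinite _)
    have hBc : B.ncard = 231 := by
      rw [Set.ncard_image_of_injective _ (fun a b e => mul_left_cancel e), X.Zt_ncard hG ht.1 ht.2.1 ht.2.2]
    rw [hBc, show X.DD.ncard = 276 from X.others_ncard hG] at hsum
    have hA : O ⊆ A := by
      rintro _ ⟨c, hc, rfl⟩
      refine ⟨(X.mem_DD_conj (hCN hc)).2 hw, ?_⟩
      have e1 : c * t * c⁻¹ = t := by rw [mem_centralizer_singleton_iff.1 hc, mul_inv_cancel_right]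
      have e2 : c * (t * w) * c⁻¹ = t * (c * w * c⁻¹) := by
        calc c * (t * w) * c⁻¹ = (c * t * c⁻¹) * (c * w * c⁻¹) := by group
          _ = _ := by rw [e1]
      rw [← e2, X.mem_DD_conj (hCN hc)]
      exact htw
    by_contra hcon
    have := Set.ncard_le_ncard hA (Set.toFinite _)
    have hA1 : t ∉ A := fun h => h.2.2.1 (X.std_eleven.sq t ht.1)
    have hA2 : A.ncard + B.ncard + 1 ≤ X.DD.ncard := by
      rw [← Set.ncard_union_eq hAB (Set.toFinite _) (Set.toFinite _)]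
      have htB : t ∉ B := by
        rintro ⟨y, hy, e⟩
        exact X.L.J.ctr.ne_one (by
          have : y = 1 := mul_eq_left.1 e
          obtain ⟨g, hg⟩ := isConj_iff.1 hy.2.1
          rw [this, conj_eq_one_iff] at hg
          exact hg)
      rw [← Set.ncard_insert_of_notMem (fun h => h.elim hA1 htB) (Set.toFinite _)]
      exact Set.ncard_le_ncard (Set.insert_subset ht (Set.union_subset (fun v hv => hv.1) hBD)) (Set.toFinite _)
    rw [hBc, show X.DD.ncard = 276 from X.others_ncard hG] at hA2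
    omega
  have hO0 : O.ncard ≠ 0 := Set.ncard_ne_zero_of_mem (a := w) ⟨1, one_mem _, by group⟩ (Set.toFinite _)
  set k := O.ncard
  set S := Nat.card ↥(C ⊓ centralizer ({w} : Set G)) with hS
  rw [hcard] at horb
  have h11 : ¬ 11 ∣ S := by
    intro hd
    obtain ⟨⟨r, hr⟩, hr11⟩ := exists_prime_orderOf_dvd_card' (G := ↥(C ⊓ centralizer ({w} : Set G))) 11 hd
    rw [Subgroup.orderOf_mk] at hr11
    obtain ⟨hrt, hrw⟩ := mem_inf.1 hr
    have hrN := hCN hrt
    have hm := card_conj_fixed (p := 11) (hr11 ▸ pow_orderOf_eq_one r) X.std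
      fun v hv => M22Order.conj_mem_of_mem_normalizer hrN hv
    obtain ⟨j, hj, hjU⟩ := (Nat.dvd_prime_pow Nat.prime_two).1
      (X.std_eleven.card ▸ card_dvd_of_le (inf_le_left : X.std ⊓ centralizer ({r} : Set G) ≤ X.std))
    rw [X.std_eleven.card, hjU] at hm
    have h2 : 2 < Nat.card ↥(X.std ⊓ centralizer ({r} : Set G)) := by
      have hmem : ∀ v ∈ ({1, t, w} : Set G), v ∈ X.std ⊓ centralizer ({r} : Set G) := by
        rintro v (rfl | rfl | rfl)
        · exact one_mem _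
        · exact ⟨ht.1, mem_centralizer_singleton_iff.2 (mem_centralizer_singleton_iff.1 hrt).symm⟩
        · exact ⟨hw.1, mem_centralizer_singleton_iff.2 (mem_centralizer_singleton_iff.1 hrw).symm⟩
      have htw' : t ≠ w := fun e => htw.2.1 (by rw [e, X.std_eleven.sq w hw.1])
      have h3 : ({1, t, w} : Set G).ncard = 3 := by
        rw [Set.ncard_eq_three]
        exact ⟨1, t, w, ht.2.1.symm, hw.2.1.symm, htw', rfl⟩
      have := Set.ncard_le_ncard hmem (Set.toFinite _)
      rw [h3, ← Nat.card_coe_set_eq] at this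
      exact this
    rw [hjU] at h2
    rw [Nat.ModEq] at hm
    have hj11 : j = 11 := by interval_cases j <;> omega
    exact fixed_big hG X hr11 (by norm_num) hrN (by rw [hjU, hj11])
  have hk11 : 11 ∣ k := by
    have h1 : 11 ∣ k * S := by rw [horb]; norm_num
    exact ((Nat.Prime.dvd_mul (by norm_num)).1 h1).resolve_right h11
  obtain ⟨i, hi⟩ := hk11
  constructor
  · intro h49
    have h1 : 49 ∣ 2 ^ 11 * 887040 := horb ▸ dvd_mul_of_dvd_right h49 k
    norm_num at h1
  · have h1 : 7 ∣ k * S := by rw [horb]; norm_num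
    refine ((Nat.Prime.dvd_mul (by norm_num)).1 h1).resolve_left fun h7 => ?_
    omega

/-- The four-group. -/
theorem exists_frame_seven (X : Chart z P) : ∃ (x : G) (W : Subgroup G), Frame z x W := by
  classical
  haveI : Fact (Nat.Prime 7) := ⟨by norm_num⟩
  have hJ := X.L.J
  set V := X.std with hVdef
  have hVs := X.std_eleven
  obtain ⟨t, w, e, ht, hw, htw, heN, het, hew⟩ := exists_config hG X
  obtain ⟨h49, h7⟩ := exists_seven_pair (e := e) hG X ht hw htw
  obtain ⟨⟨x, hx⟩, hx7⟩ := exists_prime_orderOf_dvd_card'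
    (G := ↥(centralizer ({t} : Set G) ⊓ centralizer ({w} : Set G))) 7 h7
  rw [Subgroup.orderOf_mk] at hx7
  have hxt : x * t = t * x := mem_centralizer_singleton_iff.1 hx.1
  have hxw : x * w = w * x := mem_centralizer_singleton_iff.1 hx.2
  have hCN : ∀ {u : G}, u ∈ X.DD → centralizer ({u} : Set G) ≤ normalizer (V : Set G) := fun {u} hu =>
    X.centralizer_le_of_not_zt hG hu.1 hu.2.1 hu.2.2
  have hxN : x ∈ normalizer (V : Set G) := hCN ht hx.1
  set W := V ⊓ centralizer ({x} : Set G) with hWdef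
  have hWm : ∀ {a : G}, a ∈ W ↔ a ∈ V ∧ a * x = x * a := fun {a} => by
    rw [hWdef, mem_inf, mem_centralizer_singleton_iff]
  have hsq : ∀ a ∈ W, a * a = 1 := fun a ha => hVs.sq a (hWm.1 ha).1
  have htW : t ∈ W := hWm.2 ⟨ht.1, hxt.symm⟩
  have hwW : w ∈ W := hWm.2 ⟨hw.1, hxw.symm⟩
  have htw' : t ≠ w := fun h => htw.2.1 (by rw [h, hVs.sq w hw.1])
  obtain ⟨j, hj, hjW⟩ := (Nat.dvd_prime_pow Nat.prime_two).1 (hVs.card ▸ card_dvd_of_le (inf_le_left : W ≤ V))
  have hmod := card_conj_fixed (p := 7) (hx7 ▸ pow_orderOf_eq_one x) V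
    fun v hv => M22Order.conj_mem_of_mem_normalizer hxN hv
  rw [hVs.card, ← hWdef, hjW, Nat.ModEq] at hmod
  have h3 : 3 ≤ Nat.card ↥W := by
    have h3 : ({1, t, w} : Set G).ncard = 3 := by
      rw [Set.ncard_eq_three]
      exact ⟨1, t, w, ht.2.1.symm, hw.2.1.symm, htw', rfl⟩
    have := Set.ncard_le_ncard (show ({1, t, w} : Set G) ⊆ (W : Set G) by
      rintro v (rfl | rfl | rfl)
      exacts [one_mem _, htW, hwW]) (Set.toFinite _)
    rwa [h3, ← Nat.card_coe_set_eq] at this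
  -- no conjugate of `z` in the fixed group
  have hno : ∀ v ∈ W, ¬ IsConj z v := by
    intro v hv hvz
    have hle : W ≤ centralizer ({v} : Set G) ⊓ centralizer ({x} : Set G) := fun a ha =>
      ⟨mem_centralizer_singleton_iff.2 (hVs.comm a (hWm.1 ha).1 v (hWm.1 hv).1),
        mem_centralizer_singleton_iff.2 (hWm.1 ha).2⟩
    have hdvd := (card_dvd_of_le hle).trans (cent_seven X hvz (hWm.1 hv).2.symm hx7).1
    have h5 : ({1, t, w, t * w, v} : Finset G).card = 5 := by
      have hv1 : v ≠ 1 := fun e0 => hJ.ctr.ne_one (by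
        obtain ⟨g, hg⟩ := isConj_iff.1 hvz
        rw [e0, conj_eq_one_iff] at hg
        exact hg)
      have hvt : v ≠ t := fun e0 => ht.2.2 (e0 ▸ hvz)
      have hvw : v ≠ w := fun e0 => hw.2.2 (e0 ▸ hvz)
      have hvtw : v ≠ t * w := fun e0 => htw.2.2 (e0 ▸ hvz)
      have e1 : t * w ≠ t := fun e0 => hw.2.1 (mul_eq_left.1 e0)
      have e2 : t * w ≠ w := fun e0 => ht.2.1 (mul_eq_right.1 e0)
      simp [ht.2.1.symm, hw.2.1.symm, htw.2.1.symm, htw', hv1.symm, hvt.symm, hvw.symm, hvtw.symm, e1.symm, e2.symm]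
    have hsub : (({1, t, w, t * w, v} : Finset G) : Set G) ⊆ (W : Set G) := by
      intro a ha
      simp only [Finset.coe_insert, Finset.coe_singleton, Set.mem_insert_iff, Set.mem_singleton_iff] at ha
      rcases ha with rfl | rfl | rfl | rfl | rfl
      exacts [one_mem _, htW, hwW, mul_mem htW hwW, hv]
    have hge := Set.ncard_le_ncard hsub (Set.toFinite _)
    rw [Set.ncard_coe_finset, h5, ← Nat.card_coe_set_eq] at hge
    have hge' : 5 ≤ Nat.card ↥W := hge
    rw [hjW] at hdvd hge'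
    interval_cases j <;> simp at hdvd hge' <;> omega
  have hW4 : Nat.card ↥W = 4 := by
    have hne : W ≠ ⊥ := fun e0 => ht.2.1 (by simpa [e0] using htW)
    have hyp : X.Hyp W := ⟨inf_le_left, hne, hno, fun U' h1 h2 h3 _ => X.centralizer_sub_le hG U' h1
      (fun e0 => hne (eq_bot_iff.2 (e0 ▸ h3))) h2⟩
    rcases X.card_cases hyp hG with h | h | h
    · omega
    · exact h
    · exfalso
      rw [hjW] at h
      have : j = 3 := Nat.pow_right_injective le_rfl (h.trans (by norm_num : (8 : ℕ) = 2 ^ 3))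
      rw [this] at hmod
      norm_num at hmod
  have hWcases : ∀ a ∈ W, a = 1 ∨ a = t ∨ a = w ∨ a = t * w := by
    intro a ha
    by_contra hcon
    push Not at hcon
    obtain ⟨a1, a2, a3, a4⟩ := hcon
    have e1 : t * w ≠ t := fun e0 => hw.2.1 (mul_eq_left.1 e0)
    have e2 : t * w ≠ w := fun e0 => ht.2.1 (mul_eq_right.1 e0)
    have h5 : ({1, t, w, t * w, a} : Finset G).card = 5 := by
      simp [ht.2.1.symm, hw.2.1.symm, htw.2.1.symm, htw', a1.symm, a2.symm, a3.symm, a4.symm, e1.symm, e2.symm]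
    have hsub : (({1, t, w, t * w, a} : Finset G) : Set G) ⊆ (W : Set G) := by
      intro b hb
      simp only [Finset.coe_insert, Finset.coe_singleton, Set.mem_insert_iff, Set.mem_singleton_iff] at hb
      rcases hb with rfl | rfl | rfl | rfl | rfl
      exacts [one_mem _, htW, hwW, mul_mem htW hwW, ha]
    have hge := Set.ncard_le_ncard hsub (Set.toFinite _)
    rw [Set.ncard_coe_finset, h5, ← Nat.card_coe_set_eq] at hge
    have hge' : 5 ≤ Nat.card ↥W := hge
    omega
  have hzp : ∀ {n : G}, zpowers (n * x * n⁻¹) = zpowers x → ∀ {a : G}, a ∈ W → n ∈ normalizer (V : Set G) →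
      n * a * n⁻¹ ∈ W := fun {n} hn {a} ha hnV => by
    refine hWm.2 ⟨M22Order.conj_mem_of_mem_normalizer hnV (hWm.1 ha).1, comm_of_mem_zpowers (hn.symm ▸ mem_zpowers x) ?_⟩
    rw [conj_mul, conj_mul, (hWm.1 ha).2]
  -- the transposition
  have heC : ∀ v : G, v * x = x * v → e * v * e⁻¹ * (e * x * e⁻¹) = e * x * e⁻¹ * (e * v * e⁻¹) := fun v hv => by
    rw [conj_mul, conj_mul, hv]
  have hconj7 : ∀ g : G, orderOf (g * x * g⁻¹) = 7 := fun g => by
    rw [← hx7, ← orderOf_injective (MulAut.conj g).toMonoidHom (MulAut.conj g).injective x]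
    simp
  have hex1 : e * x * e⁻¹ ∈ centralizer ({t} : Set G) ⊓ centralizer ({w} : Set G) := by
    have h1 := heC t hxt.symm
    have h2 := heC w hxw.symm
    rw [het, mul_inv_cancel_right] at h1
    rw [hew] at h2
    refine ⟨mem_centralizer_singleton_iff.2 h1.symm, mem_centralizer_singleton_iff.2 ?_⟩
    calc e * x * e⁻¹ * w = e * x * e⁻¹ * t⁻¹ * (t * w) := by
          rw [inv_eq_of_mul_eq_one_right (hVs.sq t ht.1), ← mul_assoc, mul_assoc _ t t, hVs.sq t ht.1, mul_one]
      _ = t⁻¹ * (e * x * e⁻¹ * (t * w)) := by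
          rw [show e * x * e⁻¹ * t⁻¹ = t⁻¹ * (e * x * e⁻¹) from
            ((show Commute (e * x * e⁻¹) t from h1.symm).inv_right).eq]
          group
      _ = t⁻¹ * (t * w * (e * x * e⁻¹)) := by rw [h2]
      _ = _ := by group
  obtain ⟨c₁, hc₁, hc₁x⟩ := conj_in h49 hex1 hx (hconj7 e) hx7
  set g := c₁ * e with hg
  have hgN : g ∈ normalizer (V : Set G) := mul_mem (hCN ht hc₁.1) heN
  have hgx : zpowers (g * x * g⁻¹) = zpowers x := by
    rw [hg, show c₁ * e * x * (c₁ * e)⁻¹ = c₁ * (e * x * e⁻¹) * c₁⁻¹ by group, hc₁x]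
  have hgt : g * t * g⁻¹ = t := by
    rw [hg, show c₁ * e * t * (c₁ * e)⁻¹ = c₁ * (e * t * e⁻¹) * c₁⁻¹ by group, het, mul_inv_cancel_right,
      mem_centralizer_singleton_iff.1 hc₁.1, mul_inv_cancel_right]
  have hgw : g * w * g⁻¹ = t * w := by
    rw [hg, show c₁ * e * w * (c₁ * e)⁻¹ = c₁ * (e * w * e⁻¹) * c₁⁻¹ by group, hew,
      show c₁ * (t * w) * c₁⁻¹ = (c₁ * t * c₁⁻¹) * (c₁ * w * c₁⁻¹) by group,
      mem_centralizer_singleton_iff.1 hc₁.1, mem_centralizer_singleton_iff.1 hc₁.2, mul_inv_cancel_right,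
      mul_inv_cancel_right]
  -- an element moving the first involution to the second
  obtain ⟨n₀, hn₀, hn₀t⟩ := X.others_conj hG ht.1 ht.2.1 ht.2.2 hw.1 hw.2.1 hw.2.2
  have hex2 : n₀ * x * n₀⁻¹ ∈ centralizer ({w} : Set G) :=
    mem_centralizer_singleton_iff.2 (by rw [← hn₀t, conj_mul, conj_mul, hxt])
  have h49w : ¬ 49 ∣ Nat.card ↥(centralizer ({w} : Set G)) := by rw [card_cent_t hG X hw]; norm_num
  obtain ⟨c₂, hc₂, hc₂x⟩ := conj_in h49w hex2 hx.2 (hconj7 n₀) hx7
  set n := c₂ * n₀ with hn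
  have hnN : n ∈ normalizer (V : Set G) := mul_mem (hCN hw hc₂) hn₀
  have hnx : zpowers (n * x * n⁻¹) = zpowers x := by
    rw [hn, show c₂ * n₀ * x * (c₂ * n₀)⁻¹ = c₂ * (n₀ * x * n₀⁻¹) * c₂⁻¹ by group, hc₂x]
  have hnt : n * t * n⁻¹ = w := by
    rw [hn, show c₂ * n₀ * t * (c₂ * n₀)⁻¹ = c₂ * (n₀ * t * n₀⁻¹) * c₂⁻¹ by group, hn₀t,
      mem_centralizer_singleton_iff.1 hc₂, mul_inv_cancel_right]
  have hnw : n * w * n⁻¹ = t ∨ n * w * n⁻¹ = t * w := by
    rcases hWcases _ (hzp hnx hwW hnN) with h | h | h | h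
    · exact absurd (conj_eq_one_iff.1 h) hw.2.1
    · exact Or.inl h
    · exact absurd (mul_left_cancel (mul_right_cancel (hnt.trans h.symm))) htw'
    · exact Or.inr h
  set k := n⁻¹ * g⁻¹ * n * g with hk
  have hkx : k * x = x * k := by
    obtain ⟨a, ha⟩ := mem_zpowers_iff.1 (hnx ▸ mem_zpowers (n * x * n⁻¹))
    obtain ⟨b, hb⟩ := mem_zpowers_iff.1 (hgx ▸ mem_zpowers (g * x * g⁻¹))
    have e1 : n * g * x * (n * g)⁻¹ = x ^ (a * b) := by
      rw [show n * g * x * (n * g)⁻¹ = n * (g * x * g⁻¹) * n⁻¹ by group, ← hb, ← conj_zpow, ← ha, ← zpow_mul]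
    have e2 : g * n * x * (g * n)⁻¹ = x ^ (a * b) := by
      rw [show g * n * x * (g * n)⁻¹ = g * (n * x * n⁻¹) * g⁻¹ by group, ← ha, ← conj_zpow, ← hb, ← zpow_mul,
        mul_comm]
    calc k * x = (g * n)⁻¹ * (n * g * x * (n * g)⁻¹) * (n * g) := by rw [hk]; group
      _ = x * k := by rw [e1, ← e2, hk]; group
  have hkN : k ∈ normalizer (V : Set G) := mul_mem (mul_mem (mul_mem (inv_mem hnN) (inv_mem hgN)) hnN) hgN
  have hkW : k ∈ normalizer (W : Set G) := M22Order.mem_normalizer_of_conj fun a ha =>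
    hzp (by rw [show k * x * k⁻¹ = x by rw [hkx, mul_inv_cancel_right]]) ha hkN
  have hmove : k * t * k⁻¹ ≠ t ∧ k * w * k⁻¹ ≠ w ∧ k * (t * w) * k⁻¹ ≠ t * w := by
    have hgti : g⁻¹ * w * g = t * w := by
      have h1 : g * (t * w) * g⁻¹ = w := by
        rw [show g * (t * w) * g⁻¹ = (g * t * g⁻¹) * (g * w * g⁻¹) by group, hgt, hgw, ← mul_assoc,
          hVs.sq t ht.1, one_mul]
      conv_lhs => rw [← h1]
      group
    have hgtw : g⁻¹ * (t * w) * g = w := by
      conv_lhs => rw [← hgw]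
      group
    have ht2 := hVs.sq t ht.1
    have hw2 := hVs.sq w hw.1
    have hcomm := hVs.comm t ht.1 w hw.1
    have hne1 : t * w ≠ t := fun e0 => hw.2.1 (mul_eq_left.1 e0)
    have hne2 : t * w ≠ w := fun e0 => ht.2.1 (mul_eq_right.1 e0)
    have hK : ∀ a : G, k * a * k⁻¹ = n⁻¹ * (g⁻¹ * (n * (g * a * g⁻¹) * n⁻¹) * g) * n := fun a => by rw [hk]; group
    have hKtw : k * (t * w) * k⁻¹ = (k * t * k⁻¹) * (k * w * k⁻¹) := by group
    have back : ∀ {a b : G}, n * a * n⁻¹ = b → n⁻¹ * b * n = a := fun {a b} h0 => by rw [← h0]; group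
    rcases hnw with h | h
    · have hntw : n * (t * w) * n⁻¹ = t * w := by
        rw [show n * (t * w) * n⁻¹ = (n * t * n⁻¹) * (n * w * n⁻¹) by group, hnt, h, hcomm]
      have kt : k * t * k⁻¹ = t * w := by rw [hK, hgt, hnt, hgti, back hntw]
      have kw : k * w * k⁻¹ = t := by rw [hK, hgw, hntw, hgtw, back hnt]
      refine ⟨by rw [kt]; exact hne1, by rw [kw]; exact htw', ?_⟩
      rw [hKtw, kt, kw, show t * w * t = w by rw [hcomm, mul_assoc, ht2, mul_one]]
      exact hne2.symm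
    · have hntw : n * (t * w) * n⁻¹ = t := by
        rw [show n * (t * w) * n⁻¹ = (n * t * n⁻¹) * (n * w * n⁻¹) by group, hnt, h, hcomm, ← mul_assoc,
          hw2, one_mul]
      have hgt' : g⁻¹ * t * g = t := by
        conv_lhs => rw [← hgt]
        group
      have kt : k * t * k⁻¹ = w := by rw [hK, hgt, hnt, hgti, back h]
      have kw : k * w * k⁻¹ = t * w := by rw [hK, hgw, hntw, hgt', back hntw]
      refine ⟨by rw [kt]; exact htw'.symm, by rw [kw]; exact hne2, ?_⟩
      rw [hKtw, kt, kw, show w * (t * w) = t by rw [← mul_assoc, ← hcomm, mul_assoc, hw2, mul_one]]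
      exact hne1.symm
  -- an element of order three centralizing the first
  obtain ⟨y, hy, hxy⟩ : ∃ y, IsConj z y ∧ x * y = y * x := by
    have h3k : ∃ r, orderOf r = 3 ∧ r * x = x * r := by
      haveI : Fact (Nat.Prime 3) := ⟨Nat.prime_three⟩
      have h3 : 3 ∣ orderOf k := by
        by_contra hnd
        let f : ↥(zpowers k) → ↥(zpowers k) := id
        have hset : ∀ i : ℕ, ∀ a ∈ W, k ^ i * a * (k ^ i)⁻¹ ∈ W := fun i a ha =>
          M22Order.conj_mem_of_mem_normalizer (pow_mem hkW i) ha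
        have e3 : k ^ 3 * t * (k ^ 3)⁻¹ = t := by
          rw [show k ^ 3 * t * (k ^ 3)⁻¹ = k * (k * (k * t * k⁻¹) * k⁻¹) * k⁻¹ by rw [pow_three]; group]
          obtain ⟨m1, m2, m3⟩ := hmove
          have hk1 : ∀ a ∈ W, a ≠ 1 → k * a * k⁻¹ ≠ a ∧ k * a * k⁻¹ ≠ 1 ∧ k * a * k⁻¹ ∈ W := fun a ha ha1 => by
            refine ⟨?_, fun e0 => ha1 (conj_eq_one_iff.1 e0), M22Order.conj_mem_of_mem_normalizer hkW ha⟩
            rcases hWcases a ha with rfl | rfl | rfl | rfl
            exacts [absurd rfl ha1, m1, m2, m3]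
          have inj : ∀ {a b : G}, k * a * k⁻¹ = k * b * k⁻¹ → a = b := fun h0 => mul_left_cancel (mul_right_cancel h0)
          obtain ⟨a1, b1, c1⟩ := hk1 t htW ht.2.1
          obtain ⟨a2, b2, c2⟩ := hk1 _ c1 b1
          obtain ⟨a3, b3, c3⟩ := hk1 _ c2 b2
          have d2 : k * (k * t * k⁻¹) * k⁻¹ ≠ t := by
            intro e0
            rcases hWcases _ c1 with h0 | h0 | h0 | h0
            · exact b1 h0
            · exact a1 h0
            · have hkk : k * w * k⁻¹ = t := by rw [← h0]; exact e0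
              have htw2 : k * (t * w) * k⁻¹ = t * w := by
                rw [show k * (t * w) * k⁻¹ = (k * t * k⁻¹) * (k * w * k⁻¹) by group, h0, hkk, hVs.comm w hw.1 t ht.1]
              exact m3 htw2
            · rw [h0] at e0
              have hkk : k * w * k⁻¹ = w := by
                rw [show k * w * k⁻¹ = (k * t * k⁻¹)⁻¹ * (k * (t * w) * k⁻¹) by group, h0, e0,
                  inv_eq_of_mul_eq_one_right (hsq _ (mul_mem htW hwW)), hVs.comm t ht.1 w hw.1, mul_assoc,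
                  hVs.sq t ht.1, mul_one]
              exact m2 hkk
          rcases hWcases _ c3 with h0 | h0 | h0 | h0
          · exact absurd h0 b3
          · exact h0
          · exfalso
            rcases hWcases _ c1 with g0 | g0 | g0 | g0
            · exact b1 g0
            · exact a1 g0
            · exact d2 (inj (h0.trans g0.symm))
            · rcases hWcases _ c2 with f0 | f0 | f0 | f0
              · exact b2 f0
              · exact d2 f0
              · exact a3 (h0.trans f0.symm)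
              · exact a2 (f0.trans g0.symm)
          · exfalso
            rcases hWcases _ c1 with g0 | g0 | g0 | g0
            · exact b1 g0
            · exact a1 g0
            · rcases hWcases _ c2 with f0 | f0 | f0 | f0
              · exact b2 f0
              · exact d2 f0
              · exact a2 (f0.trans g0.symm)
              · exact a3 (h0.trans f0.symm)
            · exact d2 (inj (h0.trans g0.symm))
        have hcop : (orderOf k).Coprime 3 := ((Nat.Prime.coprime_iff_not_dvd Nat.prime_three).2 hnd).symm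
        obtain ⟨i, hi⟩ := exists_pow_eq_self_of_coprime hcop.symm
        have hcom : Commute (k ^ 3) t := mul_inv_eq_iff_eq_mul.1 e3
        have hkt : Commute k t := hi ▸ hcom.pow_left i
        exact hmove.1 (by rw [hkt.eq, mul_inv_cancel_right])
      refine ⟨k ^ (orderOf k / 3), ?_, ((show Commute k x from hkx).pow_left _).eq⟩
      exact orderOf_pow_orderOf_div (orderOf_pos k).ne' h3
    obtain ⟨r, hr, hrx⟩ := h3k
    obtain ⟨u, hu, huz, hzu⟩ := exists_win hG hJ
    obtain ⟨p, hp, hp1, -, hp3⟩ := hJ.exists_gen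
    haveI : Fact (Nat.Prime 3) := ⟨Nat.prime_three⟩
    obtain ⟨g', hg'⟩ := isConj_iff.1 (isConj_three_class hJ (normalizer_P_le hG hJ) hu huz hzu hr
      (orderOf_eq_prime hp3 hp1))
    refine ⟨g'⁻¹ * z * g', isConj_iff.2 ⟨g'⁻¹, by group⟩, ?_⟩
    have hPz : P = zpowers p := by
      refine (eq_of_le_of_card_ge (zpowers_le.2 hp) ?_).symm
      rw [Nat.card_zpowers, orderOf_eq_prime hp3 hp1, hJ.cardP]
    have h1 : g' * x * g'⁻¹ ∈ normalizer (P : Set G) := M22Order.mem_normalizer_of_conj fun a ha => by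
      rw [hPz] at ha
      have h2 : g' * x * g'⁻¹ * p = p * (g' * x * g'⁻¹) := by rw [← hg', conj_mul, conj_mul, hrx]
      rw [comm_of_mem_zpowers ha h2, mul_inv_cancel_right, hPz]
      exact ha
    have h3 := mem_HH.1 (normalizer_P_le hG hJ h1)
    calc x * (g'⁻¹ * z * g') = g'⁻¹ * (g' * x * g'⁻¹ * z) * g' := by group
      _ = _ := by rw [h3]; group
  have hWabs : ∀ a ∈ W, a ≠ 1 → a ∈ X.DD := fun a ha ha1 => ⟨(hWm.1 ha).1, ha1, hno a ha⟩
  have hCW : centralizer (W : Set G) ≤ centralizer ({t} : Set G) ⊓ centralizer ({w} : Set G) := fun c hc =>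
    ⟨mem_centralizer_singleton_iff.2 (mem_centralizer_iff.1 hc t htW).symm,
      mem_centralizer_singleton_iff.2 (mem_centralizer_iff.1 hc w hwW).symm⟩
  refine ⟨x, W, ⟨hx7, fun a ha => (hWm.1 ha).2, hW4, hsq, hno, fun a ha ha1 c hca hcx => ?_, fun q hq hdvd => ?_,
    fun hd => h49 (hd.trans (card_dvd_of_le (inf_le_left.trans hCW))),
    ⟨k, hkW, hkx, fun a ha ha1 => ?_⟩, y, hy, hxy⟩⟩
  · exact M22Order.mem_normalizer_of_conj fun b hb =>
      hzp (by rw [show c * x * c⁻¹ = x by rw [hcx, mul_inv_cancel_right]]) hb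
        (hCN (hWabs a ha ha1) (mem_centralizer_singleton_iff.2 hca))
  · haveI := Fact.mk hq
    obtain ⟨⟨r, hr⟩, hrq⟩ := exists_prime_orderOf_dvd_card' (G := ↥(centralizer (W : Set G) ⊓ centralizer ({x} : Set G))) q hdvd
    rw [Subgroup.orderOf_mk] at hrq
    obtain ⟨hrW, hrx'⟩ := mem_inf.1 hr
    have hrx : r * x = x * r := mem_centralizer_singleton_iff.1 hrx'
    have hq5 : q ∣ 2 ^ 11 * 887040 := by
      rw [← card_cent_t hG X ht]
      exact hrq ▸ (centralizer ({t} : Set G)).orderOf_dvd_natCard (hCW hrW).1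
    by_contra hne
    push Not at hne
    have hqc : q = 3 ∨ q = 5 ∨ q = 11 := by
      rw [show (2 : ℕ) ^ 11 * 887040 = 2 ^ 19 * (3 ^ 2 * (5 * (7 * 11))) by norm_num] at hq5
      rcases (Nat.Prime.dvd_mul hq).1 hq5 with h | h
      · exact absurd ((Nat.prime_dvd_prime_iff_eq hq Nat.prime_two).1 (hq.dvd_of_dvd_pow h)) hne.1
      rcases (Nat.Prime.dvd_mul hq).1 h with h | h
      · exact Or.inl ((Nat.prime_dvd_prime_iff_eq hq Nat.prime_three).1 (hq.dvd_of_dvd_pow h))
      rcases (Nat.Prime.dvd_mul hq).1 h with h | h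
      · exact Or.inr (Or.inl ((Nat.prime_dvd_prime_iff_eq hq (by norm_num)).1 h))
      rcases (Nat.Prime.dvd_mul hq).1 h with h | h
      · exact absurd ((Nat.prime_dvd_prime_iff_eq hq (by norm_num)).1 h) hne.2
      · exact Or.inr (Or.inr ((Nat.prime_dvd_prime_iff_eq hq (by norm_num)).1 h))
    rcases hqc with rfl | hqc
    · obtain ⟨u, hu, huz, hzu⟩ := exists_win hG hJ
      obtain ⟨p, hp, hp1, -, hp3⟩ := hJ.exists_gen
      obtain ⟨g', hg'⟩ := isConj_iff.1 (isConj_three_class hJ (normalizer_P_le hG hJ) hu huz hzu hrq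
        (orderOf_eq_prime hp3 hp1))
      have hPz : P = zpowers p := by
        refine (eq_of_le_of_card_ge (zpowers_le.2 hp) ?_).symm
        rw [Nat.card_zpowers, orderOf_eq_prime hp3 hp1, hJ.cardP]
      have hy' : ∀ v, v * r = r * v → v * (g'⁻¹ * z * g') = g'⁻¹ * z * g' * v := by
        intro v hv
        have h1 : g' * v * g'⁻¹ ∈ normalizer (P : Set G) := M22Order.mem_normalizer_of_conj fun a ha => by
          rw [hPz] at ha
          have h2 : g' * v * g'⁻¹ * p = p * (g' * v * g'⁻¹) := by rw [← hg', conj_mul, conj_mul, hv]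
          rw [comm_of_mem_zpowers ha h2, mul_inv_cancel_right, hPz]
          exact ha
        have h3 := mem_HH.1 (normalizer_P_le hG hJ h1)
        calc v * (g'⁻¹ * z * g') = g'⁻¹ * (g' * v * g'⁻¹ * z) * g' := by group
          _ = _ := by rw [h3]; group
      set y' := g'⁻¹ * z * g'
      have hyz : IsConj z y' := isConj_iff.2 ⟨g'⁻¹, by simp [y']⟩
      have hxy' := hy' x hrx.symm
      have hy2 : y' * y' = 1 := by
        show g'⁻¹ * z * g' * (g'⁻¹ * z * g') = 1
        rw [show g'⁻¹ * z * g' * (g'⁻¹ * z * g') = g'⁻¹ * (z * z) * g' by group, hJ.ctr.zz]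
        group
      have hyW : y' ∉ W := fun h0 => hno _ h0 hyz
      have hcomW : ∀ a ∈ W, a * y' = y' * a := fun a ha => hy' a (mem_centralizer_iff.1 hrW a ha)
      have hle : zpowers y' ⊔ W ≤ centralizer ({y'} : Set G) ⊓ centralizer ({x} : Set G) :=
        sup_le (zpowers_le.2 ⟨mem_centralizer_singleton_iff.2 rfl, mem_centralizer_singleton_iff.2 hxy'.symm⟩)
          fun a ha => ⟨mem_centralizer_singleton_iff.2 (hcomW a ha), mem_centralizer_singleton_iff.2 (hWm.1 ha).2⟩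
      have hnW : zpowers y' ≤ normalizer (W : Set G) := zpowers_le.2 (M22Order.mem_normalizer_of_conj fun a ha => by
        rw [← hcomW a ha, mul_inv_cancel_right]; exact ha)
      have hS2 : IsPGroup 2 ↥(zpowers y' ⊔ W) := by
        haveI : Fact (Nat.Prime 2) := ⟨Nat.prime_two⟩
        refine IsPGroup.to_sup_of_normal_right' ?_ (IsPGroup.of_card (n := 2) (by rw [hW4]; norm_num)) hnW
        obtain ⟨i, -, hi⟩ := (Nat.dvd_prime_pow Nat.prime_two).1
          (show orderOf y' ∣ 2 ^ 1 from orderOf_dvd_of_pow_eq_one (by rw [pow_one, pow_two, hy2]))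
        exact IsPGroup.of_card (n := i) (by rw [Nat.card_zpowers, hi])
      obtain ⟨i, hi⟩ := (IsPGroup.iff_card (p := 2)).1 hS2
      have h84 := (card_dvd_of_le hle).trans (cent_seven X hyz hxy' hx7).1
      rw [hi] at h84
      have h4 := card_dvd_of_le (le_sup_right : W ≤ zpowers y' ⊔ W)
      have hne4 : 2 ^ i ≠ 4 := fun e0 => hyW (by
        rw [eq_of_le_of_card_ge (le_sup_right : W ≤ zpowers y' ⊔ W) (by rw [hi, e0, hW4])]
        exact mem_sup_left (mem_zpowers y'))
      rw [hW4, hi] at h4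
      have hi3 : i ≤ 2 := by
        by_contra hcon
        have := (pow_dvd_pow 2 (show 3 ≤ i by omega)).trans h84
        norm_num at this
      interval_cases i <;> simp at h4 hne4
    · have hrN : r ∈ normalizer (V : Set G) := hCN ht (hCW hrW).1
      set U := V ⊓ centralizer ({r} : Set G) with hU
      have hm1 := card_conj_fixed (p := q) (hrq ▸ pow_orderOf_eq_one r) V
        fun v hv => M22Order.conj_mem_of_mem_normalizer hrN hv
      rw [← hU] at hm1
      have hUW : U ⊓ centralizer ({x} : Set G) = W := by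
        refine le_antisymm (fun a ha => ⟨ha.1.1, ha.2⟩) fun a ha => ⟨⟨(hWm.1 ha).1, ?_⟩, (mem_inf.1 ha).2⟩
        exact mem_centralizer_singleton_iff.2 (mem_centralizer_iff.1 hrW a ha)
      have hm7 := card_conj_fixed (p := 7) (hx7 ▸ pow_orderOf_eq_one x) U fun v hv => by
        refine ⟨M22Order.conj_mem_of_mem_normalizer hxN hv.1, mem_centralizer_singleton_iff.2 ?_⟩
        have h1 : v * r = r * v := mem_centralizer_singleton_iff.1 hv.2
        calc x * v * x⁻¹ * r = x * (v * r) * x⁻¹ := by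
              rw [show x * v * x⁻¹ * r = x * v * (x⁻¹ * r) by group,
                show x⁻¹ * r = r * x⁻¹ from ((show Commute r x from hrx).inv_right).eq.symm]
              group
          _ = x * r * (v * x⁻¹) := by rw [h1]; group
          _ = r * (x * v * x⁻¹) := by rw [← hrx]; group
      rw [hUW, hW4] at hm7
      obtain ⟨i, hi, hiU⟩ := (Nat.dvd_prime_pow Nat.prime_two).1 (hVs.card ▸ card_dvd_of_le (inf_le_left : U ≤ V))
      rw [hVs.card, hiU] at hm1
      rw [hiU] at hm7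
      rw [Nat.ModEq] at hm1 hm7
      rcases hqc with rfl | rfl <;>
      · have h11 : i = 11 := by interval_cases i <;> omega
        exact fixed_big hG X hrq (by norm_num) hrN (by rw [← hU, hiU, h11])
  · rcases hWcases a ha with rfl | rfl | rfl | rfl
    exacts [absurd rfl ha1, hmove.1, hmove.2.1, hmove.2.2]

end Cfsg.Agent.J4Seven
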